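import Cfsg.Agent.ChevAut.CoeffDefs

/-! # The coefficient table of E8, part B -/

set_option autoImplicit false

namespace CfsgLib.ChevAut

open Cfsg.Lie CfsgLib.Chevalley
open scoped MatrixGroups

set_option maxRecDepth 10000 in
theorem coefRoot_chevE8B : (List.range' 120 120).all (coefRoot chevE8) = true := by decide +kernel

end CfsgLib.ChevAut
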