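import Cfsg.Agent.ChevAut.CoeffChkE8A
import Cfsg.Agent.ChevAut.CoeffChkE8B

/-! # The coefficient table of E8 -/

set_option autoImplicit false

namespace CfsgLib.ChevAut

open Cfsg.Lie CfsgLib.Chevalley
open scoped MatrixGroups

set_option maxRecDepth 10000 in
theorem coefSimple_chevE8 : ((List.range chevE8.rank).all fun i => (List.range chevE8.rank).all fun k =>
    coef chevE8 (chevE8.simple i) k == if k = i then 1 else 0) = true := by decide +kernel

set_option maxRecDepth 10000 in
theorem chkCoef_chevE8 : chkCoef chevE8 = true := by
  rw [chkCoef_eq, coefSimple_chevE8, Bool.true_and,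
    show List.range chevE8.nroots = List.range' 0 120 ++ List.range' 120 120 by decide +kernel,
    List.all_append, coefRoot_chevE8A, coefRoot_chevE8B, Bool.and_self]

end CfsgLib.ChevAut
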