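import Cfsg.Agent.ChevAut.CoeffChkE7
import Cfsg.Agent.ChevAut.CoeffChkE8

/-!
# Root coefficients and characters of the root lattice with prescribed values on the fundamental roots
-/

set_option autoImplicit false

namespace CfsgLib.ChevAut

open Cfsg.Lie CfsgLib.Chevalley
open scoped MatrixGroups

variable {D : ChevalleyDatum} {F : Type*} [Field F]

set_option maxRecDepth 10000 in
set_option maxHeartbeats 0 in
theorem chkCoef_of_mem {D : ChevalleyDatum}
    (hD : D ∈ [chevG2, chevB2, chevD4, chevF4, chevE6, chevE7, chevE8]) : chkCoef D = true := by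
  simp only [List.mem_cons, List.not_mem_nil, or_false] at hD
  rcases hD with rfl | rfl | rfl | rfl | rfl | rfl | rfl
  · decide +kernel
  · decide +kernel
  · decide +kernel
  · decide +kernel
  · decide +kernel
  · exact chkCoef_chevE7
  · exact chkCoef_chevE8

theorem coef_simple (hc : chkCoef D = true) (i k : Fin D.rank) :
    coef D (D.simple i) k = if k = i then 1 else 0 := by
  simp only [chkCoef, Bool.and_eq_true, List.all_eq_true, List.mem_range, beq_iff_eq] at hc
  rw [show coef D (D.simple i) k = _ from hc.1 i i.isLt k k.isLt]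
  simp [Fin.val_inj]

theorem coef_neg (hc : chkCoef D = true) {r : ℕ} (hr : r < D.nroots) (k : Fin D.rank) :
    coef D (D.neg r) k = -coef D r k := by
  simp only [chkCoef, Bool.and_eq_true, List.all_eq_true, List.mem_range, beq_iff_eq] at hc
  exact (hc.2 r hr).1.1.1 k k.isLt

theorem cartan_eq_sum (hc : chkCoef D = true) (i : Fin D.rank) {r : ℕ} (hr : r < D.nroots) :
    D.cartan i r = ∑ k : Fin D.rank, coef D r k * D.cartan i (D.simple k) := by
  simp only [chkCoef, Bool.and_eq_true, List.all_eq_true, List.mem_range, beq_iff_eq] at hc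
  rw [(hc.2 r hr).1.1.2 i i.isLt,
    Fin.sum_univ_eq_sum_range (fun k => coef D r k * D.cartan i (D.simple k))]
  simp [coef, Finset.sum, Multiset.range]

theorem chainRoot_mem {r s u : ℕ} (h : D.chainRoot r s 1 = some u) :
    ∃ e ∈ (D.chain.getD r #[]).toList, e.1 = s ∧ ∃ q, e.2.toList.head? = some q ∧ q.1 = u := by
  unfold ChevalleyDatum.chainRoot ChevalleyDatum.chainEntry at h
  cases hf : (D.chain.getD r #[]).toList.find? (fun e => e.1 = s) with
  | none => rw [hf] at h; simp at h
  | some e =>
    rw [hf] at h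
    refine ⟨e, List.mem_of_find?_eq_some hf, by simpa using List.find?_some hf, ?_⟩
    obtain ⟨q, hq, hu⟩ := Option.map_eq_some_iff.1 h
    exact ⟨q, by rw [List.head?_eq_getElem?]; exact hq, hu⟩

theorem coef_add (hc : chkCoef D = true) {r s u : ℕ} (hr : r < D.nroots)
    (h : D.chainRoot r s 1 = some u) (k : Fin D.rank) :
    coef D u k = coef D r k + coef D s k := by
  obtain ⟨e, he, rfl, q, hq, rfl⟩ := chainRoot_mem h
  simp only [chkCoef, Bool.and_eq_true, List.all_eq_true, List.mem_range, beq_iff_eq] at hc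
  have := (hc.2 r hr).1.2 e he
  rw [hq] at this
  simp only [List.all_eq_true, List.mem_range, beq_iff_eq] at this
  exact this k k.isLt

/-- The character with values `a` on the fundamental roots. -/
def chiOf (D : ChevalleyDatum) (a : Fin D.rank → Fˣ) (r : ℕ) : Fˣ :=
  ∏ k : Fin D.rank, a k ^ coef D r k

theorem chiOf_isRootCharacter (hc : chkCoef D = true) (a : Fin D.rank → Fˣ) :
    D.IsRootCharacter (chiOf D a) := by
  refine ⟨fun r hr => ?_, fun r s u hr _ h => ?_⟩
  · simp only [chiOf, coef_neg hc hr, zpow_neg, Finset.prod_inv_distrib]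
  · simp only [chiOf, coef_add hc hr h, zpow_add, Finset.prod_mul_distrib]

theorem chiOf_simple (hc : chkCoef D = true) (a : Fin D.rank → Fˣ) (i : Fin D.rank) :
    chiOf D a (D.simple i) = a i := by
  simp [chiOf, coef_simple hc, Finset.prod_eq_single i]

theorem chiOf_neg_simple (hc : chkCoef D = true) (hD : Good D) (a : Fin D.rank → Fˣ)
    (i : Fin D.rank) : chiOf D a (D.neg (D.simple i)) = (a i)⁻¹ := by
  rw [(chiOf_isRootCharacter hc a).1 _ (hD.simple_lt i.isLt), chiOf_simple hc]

theorem decomp_spec {r i s : ℕ} (h : decomp D r = some (i, s)) :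
    i < D.rank ∧ half D ≤ s ∧ s < r ∧ D.chainRoot (D.simple i) s 1 = some r := by
  obtain ⟨a, ha, h'⟩ := List.exists_of_findSome?_eq_some h
  obtain ⟨b, hb, e⟩ := Option.map_eq_some_iff.1 h'
  simp only [Prod.mk.injEq] at e
  obtain ⟨rfl, rfl⟩ := e
  have hb' := List.find?_some hb
  simp only [Bool.and_eq_true, decide_eq_true_eq, beq_iff_eq] at hb'
  exact ⟨List.mem_range.1 ha, hb'.1.1.1, hb'.1.1.2, hb'.2⟩

/-- A character is determined by its values on the fundamental roots. -/
theorem eq_chiOf (hc : chkCoef D = true) (hD : Good D) {χ : ℕ → Fˣ} (hχ : D.IsRootCharacter χ)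
    {r : ℕ} (hr : r < D.nroots) : χ r = chiOf D (fun i => χ (D.simple i)) r := by
  set ψ := chiOf D (fun i : Fin D.rank => χ (D.simple i)) with hψdef
  have hψ : D.IsRootCharacter ψ := chiOf_isRootCharacter hc _
  have hpos : ∀ r, half D ≤ r → r < D.nroots → χ r = ψ r := by
    intro r
    induction r using Nat.strong_induction_on with
    | _ r ih =>
      intro hh hr
      have hc' := hc
      simp only [chkCoef, Bool.and_eq_true, Bool.or_eq_true, List.all_eq_true, List.mem_range,
        List.any_eq_true, beq_iff_eq, decide_eq_true_eq] at hc'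
      rcases (hc'.2 r hr).2 with (h | ⟨i, hi, hir⟩) | h
      · omega
      · rw [← hir, hψdef]
        exact (chiOf_simple hc (fun i : Fin D.rank => χ (D.simple i)) ⟨i, hi⟩).symm
      · obtain ⟨⟨i, s⟩, hd⟩ := Option.isSome_iff_exists.1 h
        obtain ⟨hi, hs, hsr, hch⟩ := decomp_spec hd
        rw [hχ.2 _ _ _ (hD.simple_lt hi) (hsr.trans hr) hch,
          hψ.2 _ _ _ (hD.simple_lt hi) (hsr.trans hr) hch, ih s hsr hs (hsr.trans hr),
          hψdef, chiOf_simple hc _ ⟨i, hi⟩]
  by_cases hh : half D ≤ r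
  · exact hpos r hh hr
  · have hrev : D.neg (((⟨r, hr⟩ : Root D).rev : Root D) : ℕ) = r := by
      rw [hD.neg_fin, Fin.rev_rev]
    have hge : half D ≤ (((⟨r, hr⟩ : Root D).rev : Root D) : ℕ) := by
      have := hD.two_half
      simp only [Fin.val_rev]
      omega
    conv_lhs => rw [← hrev]
    conv_rhs => rw [← hrev]
    rw [hχ.1 _ (Fin.isLt _), hψ.1 _ (Fin.isLt _), hpos _ hge (Fin.isLt _)]

end CfsgLib.ChevAut
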