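import Mathlib.Algebra.CharP.Two
import Mathlib.FieldTheory.Finite.Basic
import Mathlib.Tactic.FieldSimp
import Mathlib.Tactic.LinearCombination
import Mathlib.Tactic.Ring

/-!
# An additive map of a finite field respecting inverses and one is multiplicative
-/

set_option autoImplicit false

namespace CfsgLib.ChevAut

variable {F : Type*} [Field F]

theorem hua_sq (f : F →+ F) (hf : Function.Injective f) (h1 : f 1 = 1)
    (hinv : ∀ x, f x⁻¹ = (f x)⁻¹) (a b : F) : f (a ^ 2 * b) = f a ^ 2 * f b := by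
  rcases eq_or_ne a 0 with rfl | ha
  · simp
  rcases eq_or_ne b 0 with rfl | hb
  · simp
  have hfa : f a ≠ 0 := fun e => ha (hf (e.trans (map_zero f).symm))
  have hfb : f b ≠ 0 := fun e => hb (hf (e.trans (map_zero f).symm))
  rcases eq_or_ne (a * b) 1 with hab | hab
  · rw [eq_inv_of_mul_eq_one_right hab, sq, mul_assoc, mul_inv_cancel₀ ha, mul_one, hinv, sq,
      mul_assoc, mul_inv_cancel₀ hfa, mul_one]
  have hfab : f a * f b ≠ 1 := fun e => hab (by
    have hb' : b = a⁻¹ := hf (by rw [hinv]; exact eq_inv_of_mul_eq_one_right e)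
    rw [hb', mul_inv_cancel₀ ha])
  have hne : b⁻¹ - a ≠ 0 := fun e => hab (by
    rw [sub_eq_zero] at e; rw [← e, inv_mul_cancel₀ hb])
  have hne' : (1 : F) - a * b ≠ 0 := sub_ne_zero.2 (Ne.symm hab)
  have hne'' : (1 : F) - f a * f b ≠ 0 := sub_ne_zero.2 (Ne.symm hfab)
  have key : a - (a⁻¹ + (b⁻¹ - a)⁻¹)⁻¹ = a ^ 2 * b := by field_simp; ring
  rw [← key]
  simp only [map_sub, map_add, hinv]
  field_simp
  ring

/-- An injective additive map respecting inverses and one is multiplicative on a finite field. -/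
theorem map_mul_of_map_inv [Finite F] (f : F →+ F) (hf : Function.Injective f) (h1 : f 1 = 1)
    (hinv : ∀ x, f x⁻¹ = (f x)⁻¹) (a b : F) : f (a * b) = f a * f b := by
  have hsq := hua_sq f hf h1 hinv
  by_cases h2 : (2 : F) = 0
  · have : CharP F 2 := CharTwo.of_one_ne_zero_of_two_eq_zero one_ne_zero h2
    obtain ⟨c, rfl⟩ : ∃ c, c ^ 2 = a :=
      (Finite.injective_iff_surjective.1 (frobenius_inj F 2)) a
    have := hsq c 1
    rw [mul_one, h1, mul_one] at this
    rw [hsq, this]
  · have h3 := hsq (a + 1) b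
    rw [show (a + 1) ^ 2 * b = a ^ 2 * b + (a * b + a * b) + b by ring, map_add, map_add, map_add,
      map_add, h1, hsq] at h3
    have : (2 : F) * (f (a * b) - f a * f b) = 0 := by linear_combination h3
    rcases mul_eq_zero.1 this with h | h
    · exact absurd h h2
    · exact sub_eq_zero.1 h

end CfsgLib.ChevAut
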