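import Cfsg.Agent.ChevAut.OutGroup
import Cfsg.Agent.Twisted.GraphSym
import Cfsg.Agent.ExcIsogeny.Aut

/-!
# Which node permutations are realised by automorphisms
-/

set_option autoImplicit false

namespace CfsgLib.ChevAut

open Cfsg.Lie CfsgLib.Chevalley CfsgLib.ChevFieldAut
open scoped MatrixGroups

/-- A signed symmetry of `chevD4` exchanging two outer nodes. -/
def graphD4swap : Twisted.TableSym where
  σ := [0, 1, 2, 6, 7, 10, 3, 4, 8, 9, 5, 11, 12, 18, 14, 15, 19, 20, 13, 16, 17, 21, 22, 23]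
  σinv := [0, 1, 2, 6, 7, 10, 3, 4, 8, 9, 5, 11, 12, 18, 14, 15, 19, 20, 13, 16, 17, 21, 22, 23]
  eps := [1, 1, 1, -1, -1, 1, -1, -1, 1, 1, 1, 1, 1, 1, 1, 1, -1, -1, 1, -1, -1, 1, 1, 1]
  π := [2, 1, 0, 3]
  πinv := [2, 1, 0, 3]
  delta := 1

theorem graphD4swap_ok : graphD4swap.Ok chevD4 := ⟨by decide +kernel⟩

variable {D : ChevalleyDatum} {C : Weyl.Cert D.rank} {M : CoxeterMatrix (Fin D.rank)}
  {R : Weyl.RootTable} {F : Type*} [Field F] [Finite F] (hW : GoodWeyl D)
  (h : Weyl.RootGood C M R)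

/-- A signed symmetry of the tables realises its node permutation. -/
theorem exists_psi_of_sym {S : Twisted.TableSym} (hS : S.Ok D) {π : Equiv.Perm (Fin D.rank)}
    (hchk : chkPermute D S.σf (nodeList π) = true) :
    ∃ φ : ↥(stab D F), psi hW h φ = π := by
  refine exists_psi_eq hW h (θ := ((hS.permutes F).aut : Aut D F)) S.σf hchk fun r t =>
    ⟨(S.sgn r : F) * t, fun hr => ?_⟩
  rw [app_of_mem _ (X_mem_group _ _ _)]
  exact (coe_eq_x_iff hW.good hr).1 ((hS.permutes F).aut_x _ r.isLt (x_eq_xR hW.good F r t).symm)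

/-- An exceptional isogeny realises its node permutation. -/
theorem exists_psi_of_iso {md : ExcIsogeny.IsoData D} (hI : ExcIsogeny.IsoOk md) (hp : md.p.Prime)
    [CharP F md.p] {ρ : ℕ → ℕ} (hρ : ∀ r : Root D, ρ r = md.rho r)
    {π : Equiv.Perm (Fin D.rank)} (hchk : chkPermute D ρ (nodeList π) = true) :
    ∃ φ : ↥(stab D F), psi hW h φ = π := by
  have := Fact.mk hp
  have hperf : ∀ x : F, ∃ y : F, y ^ md.p = x := fun x => by
    obtain ⟨y, hy⟩ := (Finite.injective_iff_surjective.1 (frobenius_inj F md.p)) x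
    exact ⟨y, hy⟩
  refine exists_psi_eq hW h (θ := (ExcIsogeny.alphaEquiv hI hp hperf : Aut D F)) ρ hchk fun r t =>
    ⟨t ^ md.e r, fun hr => ?_⟩
  rw [app_of_mem _ (X_mem_group _ _ _)]
  refine (coe_eq_x_iff hW.good hr).1 ?_
  rw [hρ]
  exact ExcIsogeny.alphaEquiv_x hI hp hperf _ r.isLt (x_eq_xR hW.good F r t).symm

/-- Every non-identity symmetry sends some Cartan integer `-1` to `-c`. -/
def chkForce (D : ChevalleyDatum) (c : ℕ) : Bool :=
  (symList D).all fun L => L == List.range D.rank ||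
    (List.range D.rank).any fun i => (List.range D.rank).any fun k =>
      D.cartan i (D.simple k) == -1 && D.cartan (L.getD i 0) (D.simple (L.getD k 0)) == -(c : ℤ)

/-- In other characteristics the node permutation is the identity. -/
theorem psi_eq_one (hD : D ∈ [chevG2, chevB2, chevD4, chevF4, chevE6, chevE7, chevE8]) {c : ℕ}
    (hc : c = 2 ∨ c = 3) (hchk : chkForce D c = true) (hchar : ringChar F ≠ c)
    (h2 : c = 3 → ¬ ∀ x : F, x = 0 ∨ x = 1) (θ : ↥(stab D F)) : psi hW h θ = 1 := by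
  obtain ⟨a, θ', π, σ, σ₀, e, hT', hπ, -⟩ := exists_form hW (ChevTorus.chainOK_of_mem hD)
    (chkCoef_of_mem hD) hD θ.2
  rw [psi_form hW _ _ h e hT']
  by_contra hne
  simp only [chkForce, List.all_eq_true, List.any_eq_true, List.mem_range, Bool.or_eq_true,
    Bool.and_eq_true, beq_iff_eq] at hchk
  rcases hchk _ (nodeList_mem_symList hπ) with h1 | ⟨i, hi, k, hk, h1, h1'⟩
  · refine hne (Equiv.ext fun i => Fin.ext ?_)
    have := nodeList_getD π i
    rw [h1] at this
    simpa [List.getD_eq_getElem?_getD, eq_comm] using this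
  · rw [nodeList_getD π ⟨i, hi⟩, nodeList_getD π ⟨k, hk⟩] at h1'
    rcases hc with rfl | rfl
    · rcases hT'.edge_char (i := ⟨i, hi⟩) (k := ⟨k, hk⟩) (m := 2) h1 h1' (Or.inl rfl) with hh | hh
      · exact hchar hh
      · have h0 : (2 : F) = 0 := (hh 2).resolve_right fun e =>
          one_ne_zero (by linear_combination e : (1 : F) = 0)
        haveI := CharTwo.of_one_ne_zero_of_two_eq_zero one_ne_zero h0
        exact hchar (ringChar.eq F 2)
    · rcases hT'.edge_char (i := ⟨i, hi⟩) (k := ⟨k, hk⟩) (m := 3) h1 h1' (Or.inr rfl) with hh | hh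
      · exact hchar hh
      · exact h2 rfl hh

end CfsgLib.ChevAut
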