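import Cfsg.Agent.ChevAut.Coeff
import Cfsg.Agent.ChevFieldAut.BigCell
import Cfsg.Agent.ChevTorus.Basic
import Mathlib.GroupTheory.Subgroup.Centralizer

/-!
# Automorphisms of a Chevalley group on the fundamental root elements; diagonal and field automorphisms
-/

set_option autoImplicit false

namespace CfsgLib.ChevAut

open Cfsg.Lie CfsgLib.Chevalley CfsgLib.ChevFieldAut
open scoped MatrixGroups Classical

variable {D : ChevalleyDatum} {F : Type*} [Field F]

/-- The automorphism group of the Chevalley group. -/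
abbrev Aut (D : ChevalleyDatum) (F : Type*) [Field F] : Type _ := MulAut ↥(D.group F)

/-- An automorphism applied to a matrix (matrices outside the group are fixed). -/
noncomputable def app (θ : Aut D F) (g : GL D.Idx F) : GL D.Idx F :=
  if h : g ∈ D.group F then θ ⟨g, h⟩ else g

theorem app_of_mem (θ : Aut D F) {g : GL D.Idx F} (h : g ∈ D.group F) :
    app θ g = (θ ⟨g, h⟩ : GL D.Idx F) := dif_pos h

theorem app_coe (θ : Aut D F) (g : ↥(D.group F)) : app θ g = (θ g : GL D.Idx F) := dif_pos g.2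

theorem app_mem (θ : Aut D F) {g : GL D.Idx F} (h : g ∈ D.group F) : app θ g ∈ D.group F := by
  rw [app_of_mem θ h]; exact (θ _).2

theorem app_one (g : GL D.Idx F) : app (1 : Aut D F) g = g := by
  unfold app
  split <;> rfl

theorem app_mul (θ φ : Aut D F) (g : GL D.Idx F) : app (θ * φ) g = app θ (app φ g) := by
  by_cases h : g ∈ D.group F
  · rw [app_of_mem _ h, app_of_mem φ h, app_coe]; rfl
  · simp [app, h]

theorem app_inv_app (θ : Aut D F) (g : GL D.Idx F) : app θ⁻¹ (app θ g) = g := by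
  rw [← app_mul, inv_mul_cancel, app_one]

theorem app_app_inv (θ : Aut D F) (g : GL D.Idx F) : app θ (app θ⁻¹ g) = g := by
  rw [← app_mul, mul_inv_cancel, app_one]

theorem app_injective (θ : Aut D F) : Function.Injective (app θ) :=
  Function.LeftInverse.injective (app_inv_app θ)

theorem app_map_mul (θ : Aut D F) {g h : GL D.Idx F} (hg : g ∈ D.group F) (hh : h ∈ D.group F) :
    app θ (g * h) = app θ g * app θ h := by
  rw [app_of_mem θ hg, app_of_mem θ hh, app_of_mem θ (mul_mem hg hh), ← Subgroup.coe_mul,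
    ← map_mul]
  rfl

theorem app_map_one (θ : Aut D F) : app θ 1 = 1 := by
  rw [app_of_mem θ (one_mem _), show (⟨1, one_mem _⟩ : ↥(D.group F)) = 1 from rfl, map_one]
  rfl

theorem app_map_inv (θ : Aut D F) {g : GL D.Idx F} (hg : g ∈ D.group F) :
    app θ g⁻¹ = (app θ g)⁻¹ := by
  rw [app_of_mem θ hg, app_of_mem θ (inv_mem hg), ← Subgroup.coe_inv, ← map_inv]
  rfl

theorem app_conj (x : ↥(D.group F)) {g : GL D.Idx F} (hg : g ∈ D.group F) :
    app (MulAut.conj x) g = (x : GL D.Idx F) * g * (x : GL D.Idx F)⁻¹ := by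
  rw [app_of_mem _ hg]
  rfl

/-- The root element of the fundamental root `i` (`b = false`) or of its negative (`b = true`). -/
def sX (hW : GoodWeyl D) (b : Bool) (i : Fin D.rank) (t : F) : GL D.Idx F :=
  X hW.good (sRoot hW b i) t

theorem sX_mem (hW : GoodWeyl D) (b : Bool) (i : Fin D.rank) (t : F) :
    sX hW b i t ∈ D.group F := X_mem_group _ _ _

theorem sRoot_val_false (hW : GoodWeyl D) (i : Fin D.rank) :
    ((sRoot hW false i : Root D) : ℕ) = D.simple i := rfl

theorem sRoot_val_true (hW : GoodWeyl D) (i : Fin D.rank) :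
    ((sRoot hW true i : Root D) : ℕ) = D.neg (D.simple i) :=
  (hW.good.neg_fin (pRoot hW i)).symm

theorem coe_sX (hW : GoodWeyl D) (b : Bool) (i : Fin D.rank) (t : F) :
    ((sX hW b i t : GL D.Idx F) : Matrix D.Idx D.Idx F) = D.x F (sRoot hW b i : Root D) t :=
  (x_eq_xR hW.good F (sRoot hW b i) t).symm

/-- Automorphisms agreeing on the root elements of `± p_i` are equal. -/
theorem aut_ext (hW : GoodWeyl D) {θ φ : Aut D F}
    (h : ∀ b i t, app θ (sX hW b i t) = app φ (sX hW b i t)) : θ = φ := by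
  have key : ∀ g ∈ D.group F, app θ g = app φ g := by
    intro g hg
    suffices g ∈ D.group F ∧ app θ g = app φ g from this.2
    have hg' := group_le_closure_simple hW hg
    clear hg
    induction hg' using Subgroup.closure_induction with
    | mem x hx =>
      obtain ⟨i, b, t, rfl⟩ := hx
      exact ⟨sX_mem hW b i t, h b i t⟩
    | one => exact ⟨one_mem _, by rw [app_map_one, app_map_one]⟩
    | mul x y _ _ hx hy =>
      exact ⟨mul_mem hx.1 hy.1, by rw [app_map_mul θ hx.1 hy.1, app_map_mul φ hx.1 hy.1, hx.2, hy.2]⟩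
    | inv x _ hx =>
      exact ⟨inv_mem hx.1, by rw [app_map_inv θ hx.1, app_map_inv φ hx.1, hx.2]⟩
  refine MulEquiv.ext fun g => Subtype.ext ?_
  rw [← app_coe, ← app_coe]
  exact key g g.2

theorem isFieldAut_iff (hW : GoodWeyl D) {f : Aut D F} :
    D.IsFieldAut f ↔ ∃ σ : F ≃+* F, ∀ (r : Root D) t, app f (X hW.good r t) = X hW.good r (σ t) := by
  constructor
  · rintro ⟨σ, h⟩
    refine ⟨σ, fun r t => Units.ext ?_⟩
    rw [app_of_mem f (X_mem_group _ _ _), h ⟨_, X_mem_group hW.good r t⟩ r t r.isLt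
      (x_eq_xR hW.good F r t).symm]
    exact x_eq_xR hW.good F r (σ t)
  · rintro ⟨σ, h⟩
    refine ⟨σ, fun g r t hr hg => ?_⟩
    have e : (g : GL D.Idx F) = X hW.good ⟨r, hr⟩ t := (coe_eq_x_iff hW.good hr).1 hg
    rw [← app_coe, e, h]
    exact (x_eq_xR hW.good F ⟨r, hr⟩ (σ t)).symm

theorem IsGraphAut.app_sX (hW : GoodWeyl D) {φ : Aut D F} (hφ : D.IsGraphAut φ) :
    ∃ π : Equiv.Perm (Fin D.rank), D.IsDiagramSymmetry π ∧ ∀ b i t,
      app φ (sX hW b i t) = sX hW b (π i) (t ^ D.graphExp (ringChar F) i (π i)) := by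
  obtain ⟨π, hπ, h⟩ := hφ
  refine ⟨π, hπ, fun b i t => Units.ext ?_⟩
  rw [app_of_mem φ (sX_mem hW b i t), coe_sX]
  cases b
  · exact (h ⟨_, sX_mem hW false i t⟩ i t).1 (coe_sX hW false i t)
  · rw [sRoot_val_true]
    refine (h ⟨_, sX_mem hW true i t⟩ i t).2 ?_
    rw [← sRoot_val_true hW]
    exact coe_sX hW true i t

theorem isGraphAut_of_app (hW : GoodWeyl D) {φ : Aut D F} (π : Equiv.Perm (Fin D.rank))
    (hπ : D.IsDiagramSymmetry π)
    (h : ∀ b i t, app φ (sX hW b i t) = sX hW b (π i) (t ^ D.graphExp (ringChar F) i (π i))) :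
    D.IsGraphAut φ := by
  refine ⟨π, hπ, fun g i t => ⟨fun hg => ?_, fun hg => ?_⟩⟩
  · have e : (g : GL D.Idx F) = sX hW false i t :=
      (coe_eq_x_iff hW.good (sRoot hW false i).isLt).1 (by rw [hg, ← sRoot_val_false hW])
    rw [← app_coe, e, h, coe_sX, sRoot_val_false]
  · have e : (g : GL D.Idx F) = sX hW true i t :=
      (coe_eq_x_iff hW.good (sRoot hW true i).isLt).1 (by rw [hg, ← sRoot_val_true hW])
    rw [← app_coe, e, h, coe_sX, sRoot_val_true]

/-- A diagonal matrix of a character as an element of the general linear group. -/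
def charGL (D : ChevalleyDatum) (χ : ℕ → Fˣ) : GL D.Idx F := tor fun s : Root D => χ s

theorem charGL_conj_X (hW : GoodWeyl D) (hok : ChevTorus.chainOK D = true) {χ : ℕ → Fˣ}
    (hχ : D.IsRootCharacter χ) (r : Root D) (t : F) :
    charGL D χ * X hW.good r t * (charGL D χ)⁻¹ = X hW.good r ((χ r : F) * t) := by
  have h := ChevTorus.charDiag_conj_x D hok χ hχ r r.isLt t
  rw [x_eq_xR hW.good, x_eq_xR hW.good] at h
  refine Units.ext ?_
  simpa [charGL, tor, ChevalleyDatum.charDiag] using h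

theorem charGL_mul (χ ψ : ℕ → Fˣ) :
    (charGL D χ : GL D.Idx F) * charGL D ψ = charGL D (fun r => χ r * ψ r) := tor_mul _ _

theorem charGL_inv (χ : ℕ → Fˣ) :
    (charGL D χ : GL D.Idx F)⁻¹ = charGL D (fun r => (χ r)⁻¹) := tor_inv _

theorem isRootCharacter_inv {χ : ℕ → Fˣ} (hχ : D.IsRootCharacter χ) :
    D.IsRootCharacter fun r => (χ r)⁻¹ :=
  ⟨fun r hr => by simp only [hχ.1 r hr], fun r s k hr hs h => by simp only [hχ.2 r s k hr hs h, mul_inv]⟩

theorem charGL_mem_normalizer (hW : GoodWeyl D) (hok : ChevTorus.chainOK D = true) {χ : ℕ → Fˣ}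
    (hχ : D.IsRootCharacter χ) :
    charGL D χ ∈ Subgroup.normalizer (D.group F : Set (GL D.Idx F)) := by
  have hle : ∀ {ψ : ℕ → Fˣ}, D.IsRootCharacter ψ → ∀ g ∈ D.group F,
      charGL D ψ * g * (charGL D ψ)⁻¹ ∈ D.group F := by
    intro ψ hψ g hg
    rw [group_eq_closure hW.good] at hg
    induction hg using Subgroup.closure_induction with
    | mem x hx =>
      obtain ⟨r, t, rfl⟩ := hx
      rw [charGL_conj_X hW hok hψ]
      exact X_mem_group _ _ _
    | one => simp
    | mul x y _ _ hx hy => simpa [mul_assoc] using mul_mem hx hy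
    | inv x _ hx => simpa [mul_assoc] using inv_mem hx
  rw [Subgroup.mem_normalizer_iff]
  refine fun g => ⟨hle hχ g, fun hg => ?_⟩
  have := hle (isRootCharacter_inv hχ) _ hg
  rw [← charGL_inv] at this
  simpa [mul_assoc] using this

/-- Conjugation by the diagonal matrix of a character. -/
noncomputable def charAut (hW : GoodWeyl D) (hok : ChevTorus.chainOK D = true) {χ : ℕ → Fˣ}
    (hχ : D.IsRootCharacter χ) : Aut D F :=
  Subgroup.normalizerMonoidHom (D.group F) ⟨charGL D χ, charGL_mem_normalizer hW hok hχ⟩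

theorem app_charAut (hW : GoodWeyl D) (hok : ChevTorus.chainOK D = true) {χ : ℕ → Fˣ}
    (hχ : D.IsRootCharacter χ) {g : GL D.Idx F} (hg : g ∈ D.group F) :
    app (charAut hW hok hχ) g = charGL D χ * g * (charGL D χ)⁻¹ := by
  rw [app_of_mem _ hg]
  rfl

theorem isDiagonalAut_charAut (hW : GoodWeyl D) (hok : ChevTorus.chainOK D = true) {χ : ℕ → Fˣ}
    (hχ : D.IsRootCharacter χ) : D.IsDiagonalAut (charAut hW hok hχ) := by
  refine ⟨χ, hχ, fun g => ?_⟩
  rw [← app_coe, app_charAut hW hok hχ g.2, charGL_inv]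
  rfl

/-- The values of an automorphism fixing each `± p_i` root subgroup with scalars `a`. -/
def Scales (hW : GoodWeyl D) (θ : Aut D F) (a : Fin D.rank → Fˣ) : Prop :=
  ∀ b i t, app θ (sX hW b i t) = sX hW b i ((bif b then ((a i)⁻¹ : Fˣ) else a i : Fˣ) * t)

theorem scales_of_char (hW : GoodWeyl D) (hok : ChevTorus.chainOK D = true) {θ : Aut D F}
    {χ : ℕ → Fˣ} (hχ : D.IsRootCharacter χ)
    (h : ∀ g : ↥(D.group F), ((θ g : GL D.Idx F) : Matrix D.Idx D.Idx F) =
      D.charDiag F χ * ((g : GL D.Idx F) : Matrix D.Idx D.Idx F) *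
        D.charDiag F (fun r => (χ r)⁻¹)) :
    Scales hW θ fun i => χ (D.simple i) := by
  intro b i t
  have e : app θ (sX hW b i t) = charGL D χ * sX hW b i t * (charGL D χ)⁻¹ := by
    refine Units.ext ?_
    rw [app_of_mem θ (sX_mem hW b i t), h, charGL_inv]
    rfl
  rw [e, sX, charGL_conj_X hW hok hχ]
  cases b
  · rfl
  · show X hW.good (sRoot hW true i) _ = _
    rw [sRoot_val_true, hχ.1 _ (hW.good.simple_lt i.isLt)]
    rfl

/-- Entrywise field automorphism on the general linear group. -/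
def glMap (D : ChevalleyDatum) (σ : F ≃+* F) : GL D.Idx F →* GL D.Idx F :=
  Matrix.GeneralLinearGroup.map (σ : F →+* F)

theorem glMap_X (hW : GoodWeyl D) (σ : F ≃+* F) (r : Root D) (t : F) :
    glMap D σ (X hW.good r t) = X hW.good r (σ t) := X_map hW.good _ r t

theorem glMap_mem (hW : GoodWeyl D) (σ : F ≃+* F) {g : GL D.Idx F} (hg : g ∈ D.group F) :
    glMap D σ g ∈ D.group F := by
  rw [group_eq_closure hW.good] at hg
  induction hg using Subgroup.closure_induction with
  | mem x hx => obtain ⟨r, t, rfl⟩ := hx; rw [glMap_X hW]; exact X_mem_group _ _ _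
  | one => rw [map_one]; exact one_mem _
  | mul x y _ _ hx hy => rw [map_mul]; exact mul_mem hx hy
  | inv x _ hx => rw [map_inv]; exact inv_mem hx

theorem glMap_symm (σ : F ≃+* F) (g : GL D.Idx F) : glMap D σ.symm (glMap D σ g) = g :=
  Units.ext (Matrix.ext fun _ _ => σ.symm_apply_apply _)

/-- The field automorphism of the group. -/
noncomputable def fieldAut (hW : GoodWeyl D) (σ : F ≃+* F) : Aut D F where
  toFun g := ⟨glMap D σ g, glMap_mem hW σ g.2⟩
  invFun g := ⟨glMap D σ.symm g, glMap_mem hW σ.symm g.2⟩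
  left_inv g := Subtype.ext (glMap_symm σ _)
  right_inv g := Subtype.ext (glMap_symm σ.symm _)
  map_mul' g h := Subtype.ext (map_mul (glMap D σ) _ _)

theorem app_fieldAut_X (hW : GoodWeyl D) (σ : F ≃+* F) (r : Root D) (t : F) :
    app (fieldAut hW σ) (X hW.good r t) = X hW.good r (σ t) := by
  rw [app_of_mem _ (X_mem_group _ _ _)]
  exact glMap_X hW σ r t

theorem isFieldAut_fieldAut (hW : GoodWeyl D) (σ : F ≃+* F) : D.IsFieldAut (fieldAut hW σ) :=
  (isFieldAut_iff hW).2 ⟨σ, app_fieldAut_X hW σ⟩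

theorem fieldAut_mul (hW : GoodWeyl D) (σ τ : F ≃+* F) :
    fieldAut hW (σ * τ) = fieldAut hW σ * fieldAut hW τ :=
  MulEquiv.ext fun _ => Subtype.ext (Units.ext (Matrix.ext fun _ _ => rfl))

/-- Field automorphisms as a homomorphism. -/
noncomputable def fieldHom (hW : GoodWeyl D) : (F ≃+* F) →* Aut D F :=
  MonoidHom.mk' (fieldAut hW) (fieldAut_mul hW)

/-- A field automorphism commutes with a graph automorphism. -/
theorem field_graph_comm (hW : GoodWeyl D) {f g : Aut D F} (hf : D.IsFieldAut f)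
    (hg : D.IsGraphAut g) : f * g = g * f := by
  obtain ⟨σ, hσ⟩ := (isFieldAut_iff hW).1 hf
  obtain ⟨π, -, hπ⟩ := IsGraphAut.app_sX hW hg
  refine aut_ext hW fun b i t => ?_
  have hs : ∀ b i t, app f (sX hW b i t) = sX hW b i (σ t) := fun b i t => hσ _ t
  rw [app_mul, app_mul, hπ, hs, hs, hπ, map_pow]

end CfsgLib.ChevAut
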