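import Cfsg.Agent.Chevalley.Bruhat

/-!
# Normalisers of `U` and `V`, the minimal parabolic subgroups and their intersection with `V`
-/

set_option autoImplicit false

namespace CfsgLib.ChevAut

open Cfsg.Lie CfsgLib.Chevalley
open scoped MatrixGroups

variable {D : ChevalleyDatum} {C : Weyl.Cert D.rank} {M : CoxeterMatrix (Fin D.rank)}
  {R : Weyl.RootTable} {F : Type*} [Field F]

/-- An element of `W` exchanging the positive and the negative roots. -/
def IsLongest (h : Weyl.RootGood C M R) (w : M.Group) : Prop :=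
  ∀ r : Root D, half D ≤ r ↔ (h.rootPerm w r : ℕ) < half D

theorem exists_isLongest (hD : Good D) (h : Weyl.RootGood C M R) : ∃ w, IsLongest h w := by
  obtain ⟨w, hw⟩ := h.exists_longest
  refine ⟨w, fun r => ⟨fun hr => ?_, fun hr => ?_⟩⟩
  · have := hw r ((posIdx_iff hD h r).2 hr)
    rw [posIdx_iff hD h] at this
    omega
  · by_contra hn
    have h1 : Weyl.PosIdx (h.negRoot r) := by
      rw [h.pos_negRoot, posIdx_iff hD h]; exact hn
    have h2 := hw _ h1
    rw [h.rootPerm_neg, h.pos_negRoot, not_not, posIdx_iff hD h] at h2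
    omega

theorem IsLongest.inv {h : Weyl.RootGood C M R} {w : M.Group} (hw : IsLongest h w) :
    IsLongest h w⁻¹ := by
  intro r
  rw [map_inv]
  have e : h.rootPerm w ((h.rootPerm w)⁻¹ r) = r := (h.rootPerm w).apply_symm_apply r
  have := hw ((h.rootPerm w)⁻¹ r)
  rw [e] at this
  omega

theorem IsLongest.ne_one {h : Weyl.RootGood C M R} {w : M.Group} (hw : IsLongest h w)
    (r : Root D) : w ≠ 1 := by
  intro e
  have := hw r
  rw [e, map_one, Equiv.Perm.one_apply] at this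
  omega

theorem longest_conj_pos (hW : GoodWeyl D) {h : Weyl.RootGood C M R} {w : M.Group}
    (hw : IsLongest h w) {g : GL D.Idx F} (hg : MonBy hW g (h.rootPerm w)) {x : GL D.Idx F}
    (hx : x ∈ D.posUnipotent F) : g * x * g⁻¹ ∈ D.negUnipotent F := by
  rw [posUnipotent_eq_rootGen hW.good] at hx
  rw [negUnipotent_eq_rootGen hW.good]
  exact hg.conj_rootGen (fun r hr => (hw r).1 hr) hx

theorem longest_conj_neg (hW : GoodWeyl D) {h : Weyl.RootGood C M R} {w : M.Group}
    (hw : IsLongest h w) {g : GL D.Idx F} (hg : MonBy hW g (h.rootPerm w)) {x : GL D.Idx F}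
    (hx : x ∈ D.negUnipotent F) : g * x * g⁻¹ ∈ D.posUnipotent F := by
  rw [negUnipotent_eq_rootGen hW.good] at hx
  rw [posUnipotent_eq_rootGen hW.good]
  refine hg.conj_rootGen (fun r hr => ?_) hx
  show half D ≤ (h.rootPerm w r : ℕ)
  have := hw r
  have hr' : (r : ℕ) < half D := hr
  omega

theorem pos_inf_neg (hW : GoodWeyl D) {x : GL D.Idx F} (h1 : x ∈ D.posUnipotent F)
    (h2 : x ∈ D.negUnipotent F) : x = 1 := by
  have : x ∈ D.borelSubgroup F ⊓ D.negUnipotent F := ⟨pos_le_borel D h1, h2⟩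
  rwa [borel_inf_neg hW, Subgroup.mem_bot] at this

theorem borel_conj_pos (hW : GoodWeyl D) {b : GL D.Idx F} (hb : b ∈ D.borelSubgroup F)
    {x : GL D.Idx F} (hx : x ∈ D.posUnipotent F) : b * x * b⁻¹ ∈ D.posUnipotent F :=
  (Subgroup.mem_normalizer_iff.1
    ((sup_le Subgroup.le_normalizer (diag_le_normalizer_pos hW) :
      D.borelSubgroup F ≤ Subgroup.normalizer (D.posUnipotent F : Set (GL D.Idx F))) hb) x).1 hx

/-- The normaliser of `U` in the group is `B`. -/
theorem mem_borel_of_conj_pos (hW : GoodWeyl D) (h : Weyl.RootGood C M R) {g : GL D.Idx F}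
    (hg : g ∈ D.group F)
    (hn : ∀ x ∈ D.posUnipotent F, g * x * g⁻¹ ∈ D.posUnipotent F) : g ∈ D.borelSubgroup F := by
  obtain ⟨w, hw⟩ := exists_mem_cell hW h hg
  obtain ⟨b, hb, b', hb', rfl⟩ := hw
  have hnW : ∀ x ∈ D.posUnipotent F, nW hW h F w * x * (nW hW h F w)⁻¹ ∈ D.posUnipotent F := by
    intro x hx
    have h1 := borel_conj_pos hW (inv_mem hb) (hn _ (borel_conj_pos hW (inv_mem hb') hx))
    simpa [mul_assoc] using h1
  have hw1 : w = 1 := by
    refine h.eq_one_of_invSet_empty (Finset.eq_empty_of_forall_notMem fun r hr => ?_)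
    rw [Weyl.RootGood.mem_invSet, posIdx_iff hW.good h, posIdx_iff hW.good h] at hr
    obtain ⟨c, hc⟩ := (monBy_nW (F := F) hW h w).conj_X r
    have hm := hnW _ (X_mem_pos hW.good hr.1 (1 : F))
    rw [hc, posUnipotent_eq hW.good] at hm
    exact hr.2 (key_of_X_mem (b := false) hW.toGoodUni (by simp) hm)
  subst hw1
  have : nW hW h F 1 ∈ cell hW h F 1 := nW_mem_cell hW h 1
  rw [cell_one hW h] at this
  exact mul_mem (mul_mem hb this) hb'

/-- An element of `U` normalising `V` is trivial. -/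
theorem eq_one_of_pos_conj_neg (hW : GoodWeyl D) (h : Weyl.RootGood C M R) {u : GL D.Idx F}
    (hu : u ∈ D.posUnipotent F)
    (hn : ∀ x ∈ D.negUnipotent F, u * x * u⁻¹ ∈ D.negUnipotent F) : u = 1 := by
  obtain ⟨w, hw⟩ := exists_isLongest hW.good h
  set n := nW hW h F w with hndef
  have hg : MonBy hW n (h.rootPerm w) := monBy_nW hW h w
  have hgi : MonBy hW n⁻¹ (h.rootPerm w⁻¹) := by rw [map_inv]; exact hg.inv
  have hnG : n ∈ D.group F := monomial_le_group hW (nW_mem hW h w)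
  have huG : u ∈ D.group F := borel_le_group hW (pos_le_borel D hu)
  have hV : n * u * n⁻¹ ∈ D.negUnipotent F := longest_conj_pos hW hw hg hu
  have hB : n * u * n⁻¹ ∈ D.borelSubgroup F := by
    refine mem_borel_of_conj_pos hW h (mul_mem (mul_mem hnG huG) (inv_mem hnG)) fun x hx => ?_
    have h1 := longest_conj_neg hW hw hg (hn _ (longest_conj_pos hW hw.inv hgi hx))
    simpa [mul_assoc] using h1
  have hb : n * u * n⁻¹ ∈ D.borelSubgroup F ⊓ D.negUnipotent F := ⟨hB, hV⟩
  rw [borel_inf_neg hW, Subgroup.mem_bot] at hb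
  simpa [mul_eq_one_iff_eq_inv] using hb

/-- `B ∩ N(V) = H`. -/
theorem mem_diag_of_conj_neg (hW : GoodWeyl D) (h : Weyl.RootGood C M R) {g : GL D.Idx F}
    (hg : g ∈ D.borelSubgroup F)
    (hn : ∀ x ∈ D.negUnipotent F, g * x * g⁻¹ ∈ D.negUnipotent F) :
    g ∈ D.diagonalSubgroup F := by
  obtain ⟨u, hu, k, hk, rfl⟩ := (mem_borel_iff hW).1 hg
  suffices u = 1 by simpa [this] using hk
  refine eq_one_of_pos_conj_neg hW h hu fun x hx => ?_
  have hk' := (Subgroup.mem_normalizer_iff.1 (diag_le_normalizer_neg hW (inv_mem hk)) x).1 hx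
  have := hn _ hk'
  simpa [mul_assoc] using this

/-- `n_i` is not in `B V`. -/
theorem nR_ne_borel_mul_neg (hW : GoodWeyl D) (h : Weyl.RootGood C M R) (i : Fin D.rank)
    {b v : GL D.Idx F} (hb : b ∈ D.borelSubgroup F) (hv : v ∈ D.negUnipotent F) :
    nR hW i ≠ b * v := by
  intro e
  obtain ⟨w, hw⟩ := exists_isLongest hW.good h
  set n := nW hW h F w with hndef
  have hgi : MonBy hW n⁻¹ (h.rootPerm w⁻¹) := by rw [map_inv]; exact (monBy_nW hW h w).inv
  have h1 : nR hW i * n ∈ cell hW h F w := by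
    have hu : n⁻¹ * v * n ∈ D.posUnipotent F := by
      simpa using longest_conj_neg hW hw.inv hgi hv
    rw [e]
    exact ⟨b, hb, _, pos_le_borel D hu, by rw [← hndef]; group⟩
  have h2 : nR hW i * n ∈ cell hW h F (M.simple i * w) := by
    have := mem_cell_self hW h
      (⟨nR hW i, nR_mem_monomial (F := F) hW i⟩ * ⟨n, nW_mem hW h w⟩)
    rw [map_mul, weylHom_nR, weylHom_nW] at this
    exact this
  have h3 : M.simple i = 1 := mul_right_cancel ((cell_eq_of_mem hW h h2 h1).trans (one_mul w).symm)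
  have h4 := congrArg (fun p => p (h.simpleRoot i)) (congrArg h.rootPerm h3)
  simp only [h.rootPerm_simple_simpleRoot, map_one, Equiv.Perm.one_apply] at h4
  have h5 := h.pos_simpleRoot i
  rw [← h4, h.pos_negRoot] at h5
  exact h5 (h.pos_simpleRoot i)

theorem simple_ne_one (h : Weyl.RootGood C M R) (i : Fin D.rank) : M.simple i ≠ 1 := by
  intro h3
  have h4 := congrArg (fun p => p (h.simpleRoot i)) (congrArg h.rootPerm h3)
  simp only [h.rootPerm_simple_simpleRoot, map_one, Equiv.Perm.one_apply] at h4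
  have h5 := h.pos_simpleRoot i
  rw [← h4, h.pos_negRoot] at h5
  exact h5 (h.pos_simpleRoot i)

theorem nR_mul_X_eq (hW : GoodWeyl D) (i : Fin D.rank) (t : Fˣ) :
    ∃ b ∈ D.borelSubgroup F, nR hW i * X hW.good (pRoot hW i) (t : F) =
      b * X hW.good (pRoot hW i).rev ((t⁻¹ : Fˣ) : F) := by
  have h := nWord_eq hW i (-t)
  have e : ((-(((-t)⁻¹ : Fˣ) : F)) : F) = ((t⁻¹ : Fˣ) : F) := by simp
  rw [e, Units.val_neg] at h
  refine ⟨(hT F (pRoot hW i) (-t))⁻¹ * X hW.good (pRoot hW i) (-(t : F)),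
    mul_mem (inv_mem (diag_le_borel D (hT_mem_diagonal hW _ _))) (X_pRoot_mem_borel hW i _), ?_⟩
  calc nR hW i * X hW.good (pRoot hW i) (t : F)
      = (hT F (pRoot hW i) (-t))⁻¹ * (hT F (pRoot hW i) (-t) * nR hW i) *
          X hW.good (pRoot hW i) (t : F) := by group
    _ = (hT F (pRoot hW i) (-t))⁻¹ * X hW.good (pRoot hW i) (-(t : F)) *
          X hW.good (pRoot hW i).rev ((t⁻¹ : Fˣ) : F) *
          (X hW.good (pRoot hW i) (-(t : F)) * X hW.good (pRoot hW i) (t : F)) := by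
        rw [← h]; group
    _ = _ := by rw [X_mul, neg_add_cancel, X_zero, mul_one]

/-- `x_{-p}(s) = x_p(1/s) n x_p(1/s)` with `n ∈ H n_p`. -/
theorem X_rev_eq (hW : GoodWeyl D) (i : Fin D.rank) (s : Fˣ) :
    X hW.good (pRoot hW i).rev (s : F) = X hW.good (pRoot hW i) ((s⁻¹ : Fˣ) : F) *
      (hT F (pRoot hW i) (-s⁻¹) * nR hW i) * X hW.good (pRoot hW i) ((s⁻¹ : Fˣ) : F) := by
  have h := nWord_eq hW i (-s⁻¹)
  have e : ((-((((-s⁻¹ : Fˣ))⁻¹ : Fˣ) : F)) : F) = (s : F) := by simp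
  rw [e, Units.val_neg] at h
  rw [← h, ← X_inv]
  group

/-- The minimal parabolic subgroup `B ∪ B n_i B`. -/
def minP (hW : GoodWeyl D) (h : Weyl.RootGood C M R) (F : Type*) [Field F] (i : Fin D.rank) :
    Subgroup (GL D.Idx F) where
  carrier := {g | g ∈ D.borelSubgroup F ∨ g ∈ cell hW h F (M.simple i)}
  one_mem' := Or.inl (one_mem _)
  mul_mem' := by
    rintro a c ha (hc | hc)
    · rcases ha with ha | ha
      · exact Or.inl (mul_mem ha hc)
      · exact Or.inr (cell_mul_borel_mem hW h ha hc)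
    rcases ha with ha | ha
    · exact Or.inr (borel_mul_mem_cell hW h ha hc)
    obtain ⟨b1, hb1, b2, hb2, rfl⟩ := ha
    obtain ⟨k, hk, ek⟩ := exists_eq_nW_mul hW h
      (⟨nR hW i, nR_mem_monomial (F := F) hW i⟩ : ↥(D.monomialSubgroup F))
    rw [weylHom_nR] at ek
    have ek' : nW hW h F (M.simple i) = nR hW i * k⁻¹ := by
      rw [show (nR hW i : GL D.Idx F) = nW hW h F (M.simple i) * k from ek, mul_inv_cancel_right]
    rw [ek', show b1 * (nR hW i * k⁻¹) * b2 * c = b1 * (nR hW i * ((k⁻¹ * b2) * c)) by group]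
    have hc' := borel_mul_mem_cell hW h (mul_mem (inv_mem (diag_le_borel D hk)) hb2) hc
    rcases nR_mul_cell hW h i hc' with h1 | h1
    · rw [show M.simple i * M.simple i = 1 by
        rw [← CoxeterMatrix.toCoxeterSystem_simple]
        exact M.toCoxeterSystem.simple_mul_simple_self i, cell_one hW h] at h1
      exact Or.inl (mul_mem hb1 h1)
    · exact Or.inr (borel_mul_mem_cell hW h hb1 h1)
  inv_mem' := by
    rintro a (ha | ha)
    · exact Or.inl (inv_mem ha)
    · obtain ⟨b1, hb1, b2, hb2, rfl⟩ := ha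
      obtain ⟨k', hk', ek'⟩ := exists_eq_nW_mul hW h
        (⟨(nW hW h F (M.simple i))⁻¹, inv_mem (nW_mem hW h _)⟩ : ↥(D.monomialSubgroup F))
      have e : weylHom hW h (⟨(nW hW h F (M.simple i))⁻¹, inv_mem (nW_mem hW h _)⟩ :
          ↥(D.monomialSubgroup F)) = M.simple i := by
        rw [show (⟨(nW hW h F (M.simple i))⁻¹, inv_mem (nW_mem hW h _)⟩ :
            ↥(D.monomialSubgroup F)) = (⟨nW hW h F (M.simple i), nW_mem hW h _⟩)⁻¹ from rfl,
          map_inv, weylHom_nW, ← CoxeterMatrix.toCoxeterSystem_simple]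
        exact inv_eq_of_mul_eq_one_right (M.toCoxeterSystem.simple_mul_simple_self i)
      rw [e] at ek'
      exact Or.inr ⟨b2⁻¹, inv_mem hb2, k' * b1⁻¹, mul_mem (diag_le_borel D hk') (inv_mem hb1),
        by rw [mul_inv_rev, mul_inv_rev,
          show (nW hW h F (M.simple i))⁻¹ = nW hW h F (M.simple i) * k' from ek']; group⟩

theorem borel_le_minP (hW : GoodWeyl D) (h : Weyl.RootGood C M R) (i : Fin D.rank) :
    D.borelSubgroup F ≤ minP hW h F i := fun _ hg => Or.inl hg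

theorem nR_mem_minP (hW : GoodWeyl D) (h : Weyl.RootGood C M R) (i : Fin D.rank) :
    (nR hW i : GL D.Idx F) ∈ minP hW h F i := Or.inr (nR_mem_cell hW h i)

theorem X_rev_mem_minP (hW : GoodWeyl D) (h : Weyl.RootGood C M R) (i : Fin D.rank) (s : F) :
    X hW.good (pRoot hW i).rev s ∈ minP hW h F i := by
  by_cases hs : s = 0
  · rw [hs, X_zero]; exact one_mem _
  have hB : ∀ u : F, X hW.good (pRoot hW i) u ∈ minP hW h F i := fun u =>
    borel_le_minP hW h i (X_pRoot_mem_borel hW i u)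
  rw [show s = ((Units.mk0 s hs : Fˣ) : F) from rfl, X_rev_eq]
  exact mul_mem (mul_mem (hB _) (mul_mem
    (borel_le_minP hW h i (diag_le_borel D (hT_mem_diagonal hW _ _))) (nR_mem_minP hW h i))) (hB _)

/-- `V ∩ (B ∪ B n_i B) = X_{-p_i}`. -/
theorem exists_eq_of_neg_minP (hW : GoodWeyl D) (h : Weyl.RootGood C M R) (i : Fin D.rank)
    {g : GL D.Idx F} (hg : g ∈ minP hW h F i) (hv : g ∈ D.negUnipotent F) :
    ∃ s : F, g = X hW.good (pRoot hW i).rev s := by
  rcases hg with hg | hg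
  · have : g ∈ D.borelSubgroup F ⊓ D.negUnipotent F := ⟨hg, hv⟩
    rw [borel_inf_neg hW, Subgroup.mem_bot] at this
    exact ⟨0, by rw [this, X_zero]⟩
  obtain ⟨b1, hb1, b2, hb2, e⟩ := hg
  obtain ⟨k, hk, ek⟩ := exists_eq_nW_mul hW h
    (⟨nR hW i, nR_mem_monomial (F := F) hW i⟩ : ↥(D.monomialSubgroup F))
  rw [weylHom_nR] at ek
  have ek' : nW hW h F (M.simple i) = nR hW i * k⁻¹ := by
    rw [show (nR hW i : GL D.Idx F) = nW hW h F (M.simple i) * k from ek, mul_inv_cancel_right]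
  obtain ⟨t, b', hb', hconj, -⟩ :=
    exists_borel_split hW i (mul_mem (inv_mem (diag_le_borel D hk)) hb2)
  have e' : g = b1 * (nR hW i * b' * (nR hW i)⁻¹) * (nR hW i * X hW.good (pRoot hW i) t) := by
    rw [← e, ek', show b1 * (nR hW i * k⁻¹) * b2 = b1 * (nR hW i * (k⁻¹ * b2)) by group, hb']
    group
  by_cases ht : t = 0
  · rw [ht, X_zero, mul_one] at e'
    refine absurd ?_ (nR_ne_borel_mul_neg hW h i
      (inv_mem (mul_mem hb1 hconj)) hv)
    rw [e']; group
  obtain ⟨b3, hb3, e3⟩ := nR_mul_X_eq hW i (Units.mk0 t ht)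
  rw [show ((Units.mk0 t ht : Fˣ) : F) = t from rfl] at e3
  refine ⟨((Units.mk0 t ht)⁻¹ : Fˣ), ?_⟩
  rw [e3] at e'
  have hm : b1 * (nR hW i * b' * (nR hW i)⁻¹) * b3 ∈ D.borelSubgroup F ⊓ D.negUnipotent F := by
    refine ⟨mul_mem (mul_mem hb1 hconj) hb3, ?_⟩
    rw [show b1 * (nR hW i * b' * (nR hW i)⁻¹) * b3 =
      g * (X hW.good (pRoot hW i).rev (((Units.mk0 t ht)⁻¹ : Fˣ) : F))⁻¹ by rw [e']; group]
    exact Subgroup.mul_mem _ hv (Subgroup.inv_mem _ (X_mem_neg hW.good (pRoot_rev_neg hW i) _))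
  rw [borel_inf_neg hW, Subgroup.mem_bot] at hm
  rw [e', show ∀ a b c : GL D.Idx F, a * (b * c) = a * b * c from fun a b c => (mul_assoc a b c).symm,
    hm, one_mul]

/-- The only subgroups of the form `B ∪ B n B` are the minimal parabolic subgroups. -/
theorem exists_simple_of_subgroup (hW : GoodWeyl D) (h : Weyl.RootGood C M R) {w : M.Group}
    (hw : w ≠ 1) (K : Subgroup (GL D.Idx F))
    (hK : ∀ g, g ∈ K ↔ g ∈ D.borelSubgroup F ∨ g ∈ cell hW h F w) :
    ∃ j : Fin D.rank, w = M.simple j := by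
  obtain ⟨j, hj⟩ := M.toCoxeterSystem.exists_leftDescent_of_ne_one hw
  rw [CoxeterSystem.isLeftDescent_iff, CoxeterMatrix.toCoxeterSystem_simple] at hj
  have hnu : ¬ GoesUp hW h j w := by rw [goesUp_iff]; omega
  refine ⟨j, ?_⟩
  set β := h.rootPerm w⁻¹ (pRoot hW j) with hβ
  have hβn : (β : ℕ) < half D := not_le.1 hnu
  have hm := monBy_nW (F := F) hW h w
  have hβw : h.rootPerm w β = pRoot hW j := by
    rw [hβ, map_inv]; exact (h.rootPerm w).apply_symm_apply _
  obtain ⟨c, hc⟩ := hm.conj_X β.rev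
  rw [hm.apply_rev, hβw] at hc
  have hpos : half D ≤ (β.rev : ℕ) := by
    have := hW.good.two_half
    rw [Fin.val_rev]; omega
  have hB : ∀ g ∈ D.borelSubgroup F, g ∈ K := fun g hg => (hK g).2 (Or.inl hg)
  have hn : nW hW h F w ∈ K := (hK _).2 (Or.inr (nW_mem_cell hW h w))
  have hneg : X hW.good (pRoot hW j).rev (-1 : F) ∈ K := by
    have := hc (((c⁻¹ : Fˣ) : F) * -1)
    rw [← mul_assoc, ← Units.val_mul, mul_inv_cancel, Units.val_one, one_mul] at this
    rw [← this]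
    exact mul_mem (mul_mem hn (hB _ (pos_le_borel D (X_mem_pos hW.good hpos _)))) (inv_mem hn)
  have hnR : (nR hW j : GL D.Idx F) ∈ K :=
    mul_mem (mul_mem (hB _ (X_pRoot_mem_borel hW j 1)) hneg) (hB _ (X_pRoot_mem_borel hW j 1))
  rcases (hK _).1 hnR with h1 | h1
  · exact absurd (mul_one (nR hW j : GL D.Idx F)).symm
      (fun e => nR_ne_borel_mul_neg hW h j h1 (one_mem _) e)
  · exact cell_eq_of_mem hW h h1 (nR_mem_cell hW h j)

end CfsgLib.ChevAut
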