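import Cfsg.Agent.ChevAut.Stab
import Cfsg.Agent.Chevalley.BNPair

/-!
# An automorphism preserving `U` and `V` permutes the fundamental root subgroups
-/

set_option autoImplicit false

namespace CfsgLib.ChevAut

open Cfsg.Lie CfsgLib.Chevalley CfsgLib.ChevFieldAut
open scoped MatrixGroups

variable {D : ChevalleyDatum} {C : Weyl.Cert D.rank} {M : CoxeterMatrix (Fin D.rank)}
  {R : Weyl.RootTable} {F : Type*} [Field F]

theorem app_mem_borel_iff (hW : GoodWeyl D) (h : Weyl.RootGood C M R) {θ : Aut D F}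
    (hθ : θ ∈ stab D F) (g : GL D.Idx F) :
    app θ g ∈ D.borelSubgroup F ↔ g ∈ D.borelSubgroup F := by
  suffices H : ∀ φ ∈ stab D F, ∀ g, g ∈ D.borelSubgroup F → app φ g ∈ D.borelSubgroup F by
    exact ⟨fun hg => by simpa [app_inv_app] using H _ (inv_mem hθ) _ hg, H θ hθ g⟩
  intro φ hφ g hg
  have hgG := borel_le_group hW hg
  refine mem_borel_of_conj_pos hW h (app_mem φ hgG) fun x hx => ?_
  have hx0 : app φ⁻¹ x ∈ D.posUnipotent F := ((inv_mem hφ).1 x).2 hx
  have hx0G := pos_le_group hW hx0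
  have e : app φ g * x * (app φ g)⁻¹ = app φ (g * app φ⁻¹ x * g⁻¹) := by
    rw [app_map_mul φ (mul_mem hgG hx0G) (inv_mem hgG), app_map_mul φ hgG hx0G, app_map_inv φ hgG,
      app_app_inv]
  rw [e, hφ.1]
  exact borel_conj_pos hW hg hx0

theorem app_mem_diag (hW : GoodWeyl D) (h : Weyl.RootGood C M R) {θ : Aut D F}
    (hθ : θ ∈ stab D F) {g : GL D.Idx F} (hg : g ∈ D.diagonalSubgroup F) :
    app θ g ∈ D.diagonalSubgroup F := by
  have hgG := diag_le_group hW hg
  refine mem_diag_of_conj_neg hW h ((app_mem_borel_iff hW h hθ g).2 (diag_le_borel D hg))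
    fun x hx => ?_
  have hx0 : app θ⁻¹ x ∈ D.negUnipotent F := ((inv_mem hθ).2 x).2 hx
  have hx0G := neg_le_group hW hx0
  have e : app θ g * x * (app θ g)⁻¹ = app θ (g * app θ⁻¹ x * g⁻¹) := by
    rw [app_map_mul θ (mul_mem hgG hx0G) (inv_mem hgG), app_map_mul θ hgG hx0G, app_map_inv θ hgG,
      app_app_inv]
  rw [e, hθ.2]
  exact (Subgroup.mem_normalizer_iff.1 (diag_le_normalizer_neg hW hg) _).1 hx0

theorem app_mem_diag_iff (hW : GoodWeyl D) (h : Weyl.RootGood C M R) {θ : Aut D F}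
    (hθ : θ ∈ stab D F) (g : GL D.Idx F) :
    app θ g ∈ D.diagonalSubgroup F ↔ g ∈ D.diagonalSubgroup F :=
  ⟨fun hg => by simpa [app_inv_app] using app_mem_diag hW h (inv_mem hθ) hg,
    app_mem_diag hW h hθ⟩

theorem sRoot_true (hW : GoodWeyl D) (i : Fin D.rank) :
    sRoot hW true i = (pRoot hW i).rev := rfl

theorem sX_false_mem_pos (hW : GoodWeyl D) (i : Fin D.rank) (t : F) :
    sX hW false i t ∈ D.posUnipotent F := X_mem_pos hW.good (pRoot_pos hW i) t

theorem sX_true_mem_neg (hW : GoodWeyl D) (i : Fin D.rank) (t : F) :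
    sX hW true i t ∈ D.negUnipotent F := X_mem_neg hW.good (pRoot_rev_neg hW i) t

/-- Each `X_{-p_i}` goes into some `X_{-p_j}`. -/
theorem exists_neg_node (hW : GoodWeyl D) (h : Weyl.RootGood C M R) {θ : Aut D F}
    (hθ : θ ∈ stab D F) (i : Fin D.rank) :
    ∃ j, ∀ t, ∃ s, app θ (sX hW true i t) = sX hW true j s := by
  have hnG : (nR hW i : GL D.Idx F) ∈ D.group F := nR_mem_group hW i
  obtain ⟨w, hw⟩ := exists_mem_cell hW h (app_mem θ hnG)
  obtain ⟨b, hb, b', hb', e⟩ := hw
  have hBi := fun g => app_mem_borel_iff hW h (inv_mem hθ) g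
  have hB := fun g => app_mem_borel_iff hW h hθ g
  set K : Subgroup (GL D.Idx F) := pull θ⁻¹ (minP hW h F i) with hKdef
  have hK : ∀ g, g ∈ K ↔ g ∈ D.borelSubgroup F ∨ g ∈ cell hW h F w := by
    intro g
    rw [hKdef, mem_pull]
    constructor
    · rintro ⟨hgG, hg | hg⟩
      · exact Or.inl ((hBi g).1 hg)
      · obtain ⟨c, hc, c', hc', e'⟩ := hg
        obtain ⟨k, hk, ek⟩ := exists_eq_nW_mul hW h
          (⟨nR hW i, nR_mem_monomial (F := F) hW i⟩ : ↥(D.monomialSubgroup F))
        rw [weylHom_nR] at ek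
        have ek' : nW hW h F (M.simple i) = nR hW i * k⁻¹ := by
          rw [show (nR hW i : GL D.Idx F) = nW hW h F (M.simple i) * k from ek,
            mul_inv_cancel_right]
        have hg' : app θ⁻¹ g = c * nR hW i * (k⁻¹ * c') := by rw [← e', ek']; group
        have hm := mul_mem (inv_mem (diag_le_borel D hk)) hc'
        have e2 : g = app θ c * app θ (nR hW i) * app θ (k⁻¹ * c') := by
          rw [← app_map_mul θ (borel_le_group hW hc) hnG,
            ← app_map_mul θ (mul_mem (borel_le_group hW hc) hnG) (borel_le_group hW hm), ← hg',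
            app_app_inv]
        refine Or.inr ?_
        rw [e2, ← e]
        exact mul_mem_cell hW h ((hB c).2 hc)
          ⟨b, hb, b', hb', rfl⟩ ((hB _).2 hm)
    · rintro (hg | hg)
      · exact ⟨borel_le_group hW hg, Or.inl ((hBi g).2 hg)⟩
      · obtain ⟨c, hc, c', hc', e'⟩ := hg
        refine ⟨cell_subset_group hW h ⟨c, hc, c', hc', e'⟩, ?_⟩
        have e2 : g = (c * b⁻¹) * app θ (nR hW i) * (b'⁻¹ * c') := by rw [← e, ← e']; group
        have h1 := mul_mem hc (inv_mem hb)
        have h2 := mul_mem (inv_mem hb') hc'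
        rw [e2, app_map_mul _ (mul_mem (borel_le_group hW h1) (app_mem θ hnG))
          (borel_le_group hW h2), app_map_mul _ (borel_le_group hW h1) (app_mem θ hnG), app_inv_app]
        exact mul_mem (mul_mem (borel_le_minP hW h i ((hBi _).2 h1)) (nR_mem_minP hW h i))
          (borel_le_minP hW h i ((hBi _).2 h2))
  have hw1 : w ≠ 1 := by
    rintro rfl
    have h1 : app θ (nR hW i) ∈ cell hW h F (1 : M.Group) := ⟨b, hb, b', hb', e⟩
    rw [cell_one hW h] at h1
    exact nR_ne_borel_mul_neg hW h i ((hB _).1 h1) (one_mem _) (mul_one _).symm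
  obtain ⟨j, rfl⟩ := exists_simple_of_subgroup hW h hw1 K hK
  refine ⟨j, fun t => ?_⟩
  have hV : app θ (sX hW true i t) ∈ D.negUnipotent F := (hθ.2 _).2 (sX_true_mem_neg hW i t)
  have hP : app θ (sX hW true i t) ∈ minP hW h F j := by
    refine (hK _).1 (mem_pull.2 ⟨app_mem θ (sX_mem hW true i t), ?_⟩)
    rw [app_inv_app]
    exact X_rev_mem_minP hW h i t
  exact exists_eq_of_neg_minP hW h j hP hV

/-- An element exchanging positive and negative roots sends negated fundamental roots to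
fundamental roots. -/
theorem exists_longest_simple (hW : GoodWeyl D) (h : Weyl.RootGood C M R) {w : M.Group}
    (hw : IsLongest h w) (k : Fin D.rank) :
    ∃ j, h.rootPerm w (pRoot hW k).rev = pRoot hW j := by
  have hex : ∃ j, half D ≤ (h.rootPerm (M.simple k * w⁻¹) (pRoot hW j) : ℕ) := by
    by_contra hcon
    push Not at hcon
    have hu : w * (M.simple k * w⁻¹) = 1 := by
      refine h.eq_one_of_invSet_empty (h.invSet_eq_empty fun j => ?_)
      rw [posIdx_iff hW.good h, simpleRoot_eq hW h, map_mul, Equiv.Perm.mul_apply]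
      by_contra hn
      have := (hw _).2 (not_le.1 hn)
      have := hcon j
      omega
    have : M.simple k = 1 := by
      calc M.simple k = w⁻¹ * (w * (M.simple k * w⁻¹)) * w := by group
        _ = 1 := by rw [hu]; group
    exact simple_ne_one h k this
  obtain ⟨j, hj⟩ := hex
  refine ⟨j, ?_⟩
  set s := h.rootPerm w⁻¹ (pRoot hW j) with hs
  have hsn : (s : ℕ) < half D := (hw.inv _).1 (pRoot_pos hW j)
  have hsrev : half D ≤ (s.rev : ℕ) := by
    have := hW.good.two_half; rw [Fin.val_rev]; omega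
  rw [map_mul, Equiv.Perm.mul_apply, ← hs, ← wPerm_eq_rootPerm hW h] at hj
  have e : s = (pRoot hW k).rev := by
    by_contra hne
    have hne' : s.rev ≠ pRoot hW k := fun e => hne (by rw [← e, Fin.rev_rev])
    have h1 := (hW.wPerm_pos k hsrev hne').1
    rw [hW.wPerm_rev, Fin.val_rev] at h1
    have := hW.good.two_half
    omega
  rw [← e, hs, map_inv]
  exact (h.rootPerm w).apply_symm_apply _

theorem conj_pull_stab (hW : GoodWeyl D) {h : Weyl.RootGood C M R} {w : M.Group}
    (hw : IsLongest h w) {n : ↥(D.group F)} (hn : MonBy hW (n : GL D.Idx F) (h.rootPerm w))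
    {θ : Aut D F} (hθ : θ ∈ stab D F) : MulAut.conj n * θ * (MulAut.conj n)⁻¹ ∈ stab D F := by
  have hni : MonBy hW (n : GL D.Idx F)⁻¹ (h.rootPerm w⁻¹) := by rw [map_inv]; exact hn.inv
  suffices H : ∀ φ ∈ stab D F, ∀ g,
      (g ∈ D.posUnipotent F → app (MulAut.conj n * φ * (MulAut.conj n)⁻¹) g ∈ D.posUnipotent F) ∧
      (g ∈ D.negUnipotent F → app (MulAut.conj n * φ * (MulAut.conj n)⁻¹) g ∈ D.negUnipotent F) by
    have hinv : (MulAut.conj n * θ * (MulAut.conj n)⁻¹)⁻¹ =
        MulAut.conj n * θ⁻¹ * (MulAut.conj n)⁻¹ := by group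
    refine ⟨fun g => ⟨fun hg => ?_, (H θ hθ g).1⟩, fun g => ⟨fun hg => ?_, (H θ hθ g).2⟩⟩
    · have := (H _ (inv_mem hθ) _).1 hg
      rwa [← hinv, app_inv_app] at this
    · have := (H _ (inv_mem hθ) _).2 hg
      rwa [← hinv, app_inv_app] at this
  intro φ hφ g
  have hconj : ∀ x ∈ D.group F, app (MulAut.conj n)⁻¹ x = (n : GL D.Idx F)⁻¹ * x * n := by
    intro x hx
    rw [← map_inv, app_conj n⁻¹ hx]
    simp
  refine ⟨fun hg => ?_, fun hg => ?_⟩
  · have h1 := longest_conj_pos hW hw.inv hni hg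
    rw [inv_inv] at h1
    have h2 := (hφ.2 _).2 h1
    rw [app_mul, app_mul, hconj g (pos_le_group hW hg), app_conj n (neg_le_group hW h2)]
    exact longest_conj_neg hW hw hn h2
  · have h1 := longest_conj_neg hW hw.inv hni hg
    rw [inv_inv] at h1
    have h2 := (hφ.1 _).2 h1
    rw [app_mul, app_mul, hconj g (neg_le_group hW hg), app_conj n (pos_le_group hW h2)]
    exact longest_conj_pos hW hw hn h2

/-- Each `X_{p_i}` goes into some `X_{p_j}`. -/
theorem exists_pos_node (hW : GoodWeyl D) (h : Weyl.RootGood C M R) {θ : Aut D F}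
    (hθ : θ ∈ stab D F) (i : Fin D.rank) :
    ∃ j, ∀ t, ∃ s, app θ (sX hW false i t) = sX hW false j s := by
  obtain ⟨w, hw⟩ := exists_isLongest hW.good h
  choose ρ hρ using exists_longest_simple hW h hw.inv
  have hρi : Function.Injective ρ := fun a b e =>
    pRoot_injective hW (Fin.rev_injective ((h.rootPerm w⁻¹).injective (by rw [hρ, hρ, e])))
  obtain ⟨k, rfl⟩ := (Finite.injective_iff_surjective.1 hρi) i
  set n : ↥(D.group F) := ⟨nW hW h F w, monomial_le_group hW (nW_mem hW h w)⟩ with hn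
  have hm : MonBy hW (n : GL D.Idx F) (h.rootPerm w) := monBy_nW hW h w
  set φ := MulAut.conj n * θ * (MulAut.conj n)⁻¹ with hφ
  obtain ⟨l, hl⟩ := exists_neg_node hW h (conj_pull_stab hW hw hm hθ) k
  refine ⟨ρ l, fun t => ?_⟩
  have hmi : MonBy hW (n : GL D.Idx F)⁻¹ (h.rootPerm w⁻¹) := by rw [map_inv]; exact hm.inv
  obtain ⟨c, hc⟩ := hmi.conj_X (pRoot hW k).rev
  obtain ⟨d, hd⟩ := hmi.conj_X (pRoot hW l).rev
  rw [hρ] at hc hd
  obtain ⟨s, hs⟩ := hl (((c⁻¹ : Fˣ) : F) * t)
  refine ⟨(d : F) * s, ?_⟩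
  have e1 : sX hW false (ρ k) t =
      (n : GL D.Idx F)⁻¹ * sX hW true k (((c⁻¹ : Fˣ) : F) * t) * (n : GL D.Idx F)⁻¹⁻¹ := by
    simp only [sX]
    rw [sRoot_true, hc, ← mul_assoc, ← Units.val_mul, mul_inv_cancel, Units.val_one, one_mul]
    rfl
  have hy := sX_mem hW true k (((c⁻¹ : Fˣ) : F) * t)
  have e2 : app θ (sX hW false (ρ k) t) = app (MulAut.conj n)⁻¹
      (app φ (sX hW true k (((c⁻¹ : Fˣ) : F) * t))) := by
    rw [← app_mul, hφ, show (MulAut.conj n)⁻¹ * (MulAut.conj n * θ * (MulAut.conj n)⁻¹) =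
      θ * (MulAut.conj n)⁻¹ by group, app_mul, e1, ← map_inv, app_conj n⁻¹ hy]
    simp
  rw [e2, hs, ← map_inv, app_conj n⁻¹ (sX_mem hW true l s), Subgroup.coe_inv]
  simp only [sX]
  rw [sRoot_true, hd]
  rfl

/-- The exponent of `x_p` in the big cell of `P_p` is unique. -/
theorem exp_unique (hW : GoodWeyl D) (i : Fin D.rank) {b b' : GL D.Idx F}
    (hb : b ∈ D.borelSubgroup F) (hb' : b' ∈ D.borelSubgroup F) {c c' : F}
    (e : b * nR hW i * X hW.good (pRoot hW i) c = b' * nR hW i * X hW.good (pRoot hW i) c') :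
    c = c' ∧ b = b' := by
  have h1 : b'⁻¹ * b = X hW.good (pRoot hW i).rev (-(c' - c)) := by
    have h2 : nR hW i * X hW.good (pRoot hW i) (c' - c) * (nR hW i)⁻¹ =
        X hW.good (pRoot hW i).rev (-(c' - c)) := by
      rw [nR_conj, hW.wPerm_pRoot, hW.eta_pRoot]; simp
    rw [← h2, show X hW.good (pRoot hW i) (c' - c) =
      X hW.good (pRoot hW i) c' * (X hW.good (pRoot hW i) c)⁻¹ by
        rw [X_inv, X_mul, sub_eq_add_neg]]
    calc b'⁻¹ * b = b'⁻¹ * (b * nR hW i * X hW.good (pRoot hW i) c) *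
          (X hW.good (pRoot hW i) c)⁻¹ * (nR hW i)⁻¹ := by group
      _ = _ := by rw [e]; group
  have hm : b'⁻¹ * b ∈ D.borelSubgroup F ⊓ D.negUnipotent F :=
    Subgroup.mem_inf.2 ⟨mul_mem (inv_mem hb') hb, by rw [h1]; exact X_mem_neg hW.good (pRoot_rev_neg hW i) _⟩
  rw [borel_inf_neg hW, Subgroup.mem_bot] at hm
  refine ⟨?_, (inv_mul_eq_one.1 hm).symm⟩
  rw [hm, ← X_zero hW.good (pRoot hW i).rev] at h1
  have := X_injective hW.good _ h1
  simpa [sub_eq_zero, eq_comm] using this

/-- `x_p(a)` and `x_{-p}(b)` commute only trivially. -/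
theorem eq_zero_of_commute (hW : GoodWeyl D) (i : Fin D.rank) {a b : F} (hb : b ≠ 0)
    (e : sX hW false i a * sX hW true i b = sX hW true i b * sX hW false i a) : a = 0 := by
  simp only [sX, sRoot_true, show sRoot hW false i = pRoot hW i from rfl] at e
  rw [show b = ((Units.mk0 b hb : Fˣ) : F) from rfl, X_rev_eq] at e
  have hH : ∀ u : F, X hW.good (pRoot hW i) u * hT F (pRoot hW i) (-(Units.mk0 b hb)⁻¹) ∈
      D.borelSubgroup F := fun u =>
    mul_mem (X_pRoot_mem_borel hW i u) (diag_le_borel D (hT_mem_diagonal hW _ _))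
  set β := (((Units.mk0 b hb)⁻¹ : Fˣ) : F)
  have e' : X hW.good (pRoot hW i) (a + β) * hT F (pRoot hW i) (-(Units.mk0 b hb)⁻¹) * nR hW i *
      X hW.good (pRoot hW i) β = X hW.good (pRoot hW i) β *
        hT F (pRoot hW i) (-(Units.mk0 b hb)⁻¹) * nR hW i * X hW.good (pRoot hW i) (β + a) := by
    rw [← X_mul, ← X_mul]
    simpa only [mul_assoc] using e
  have := (exp_unique hW i (hH _) (hH _) e').1
  simpa using this

theorem sX_commute (hW : GoodWeyl D) {i k : Fin D.rank} (hik : i ≠ k) (t u : F) :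
    sX hW false i t * sX hW true k u = sX hW true k u * sX hW false i t := by
  have h1 : D.chainEntry (genR hW.good false i) (genR hW.good true k) = [] :=
    hW.good.chainEntry_mixed hik false
  have h2 : D.chainEntry (genR hW.good true k) (genR hW.good false i) = [] :=
    hW.good.chainEntry_mixed hik.symm true
  have hrev : genR hW.good true k = (pRoot hW k).rev := hW.good.genR_not false k
  rw [hrev] at h1 h2
  have hc : D.commTerms (pRoot hW i) ((pRoot hW k).rev : Root D) = [] := by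
    change D.chainEntry (pRoot hW i : ℕ) _ = [] at h1
    change D.chainEntry _ (pRoot hW i : ℕ) = [] at h2
    simp only [ChevalleyDatum.commTerms, ChevalleyDatum.chainRoot, h1, h2]
    simp
  have hne : (pRoot hW k).rev ≠ pRoot hW i := by
    intro e
    have := pRoot_rev_neg hW k
    have := pRoot_pos hW i
    rw [e] at *
    omega
  have hne' : (pRoot hW k).rev ≠ (pRoot hW i).rev := fun e =>
    hik (pRoot_injective hW (Fin.rev_injective e)).symm
  have := X_comm hW.toGoodComm (pRoot hW i) (pRoot hW k).rev hne hne' t u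
  simp only [commRhs, hc, List.map_nil, wordGL, List.prod_nil, mul_one] at this
  exact this.symm

/-- `θ` carries the fundamental root subgroups by `π`, on both signs. -/
def NodeMap (hW : GoodWeyl D) (θ : Aut D F) (π : Equiv.Perm (Fin D.rank)) : Prop :=
  ∀ b i t, ∃ s, app θ (sX hW b i t) = sX hW b (π i) s

theorem app_sX_ne_one (hW : GoodWeyl D) (θ : Aut D F) (b : Bool) (i : Fin D.rank) :
    app θ (sX hW b i 1) ≠ 1 := by
  intro e
  have := app_injective θ (e.trans (app_map_one θ).symm)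
  rw [sX, ← X_zero hW.good (sRoot hW b i)] at this
  exact one_ne_zero (X_injective hW.good _ this)

theorem exists_nodeMap (hW : GoodWeyl D) (h : Weyl.RootGood C M R) {θ : Aut D F}
    (hθ : θ ∈ stab D F) : ∃ π : Equiv.Perm (Fin D.rank), NodeMap hW θ π := by
  choose πn hn using exists_neg_node hW h hθ
  choose πp hp using exists_pos_node hW h hθ
  have hval : ∀ i k, ∃ a b : F, a ≠ 0 ∧ b ≠ 0 ∧ app θ (sX hW false i 1) = sX hW false (πp i) a ∧
      app θ (sX hW true k 1) = sX hW true (πn k) b := by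
    intro i k
    obtain ⟨a, ha⟩ := hp i 1
    obtain ⟨b, hb⟩ := hn k 1
    refine ⟨a, b, fun e => app_sX_ne_one hW θ false i ?_,
      fun e => app_sX_ne_one hW θ true k ?_, ha, hb⟩
    · rw [ha, e, sX, X_zero]
    · rw [hb, e, sX, X_zero]
  have hiff : ∀ i k, πp i = πn k → i = k := by
    intro i k e
    by_contra hik
    obtain ⟨a, b, ha, hb, ea, eb⟩ := hval i k
    have hc := congrArg (app θ) (sX_commute hW hik (1 : F) 1)
    rw [app_map_mul θ (sX_mem hW _ _ _) (sX_mem hW _ _ _),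
      app_map_mul θ (sX_mem hW _ _ _) (sX_mem hW _ _ _), ea, eb, e] at hc
    exact ha (eq_zero_of_commute hW _ hb hc)
  have hpn : ∀ i, πp i = πn i := by
    intro i
    by_contra hne
    obtain ⟨a, b, ha, hb, ea, eb⟩ := hval i i
    have hc := sX_commute hW hne a b
    rw [← ea, ← eb, ← app_map_mul θ (sX_mem hW _ _ _) (sX_mem hW _ _ _),
      ← app_map_mul θ (sX_mem hW _ _ _) (sX_mem hW _ _ _)] at hc
    exact one_ne_zero (eq_zero_of_commute hW i one_ne_zero (app_injective θ hc))
  have hinj : Function.Injective πp := fun i k e => hiff i k (e.trans (hpn k))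
  refine ⟨Equiv.ofBijective πp ⟨hinj, Finite.injective_iff_surjective.1 hinj⟩, fun b i t => ?_⟩
  cases b
  · exact hp i t
  · obtain ⟨s, hs⟩ := hn i t
    exact ⟨s, show app θ (sX hW true i t) = sX hW true (πp i) s by rw [hpn]; exact hs⟩

end CfsgLib.ChevAut
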