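import Cfsg.Agent.ChevAut.Graphs
import Cfsg.Agent.RegularLinear.Field
import Cfsg.Agent.S1035

/-!
# The node permutations of the seven data and the orders of the outer automorphism groups
-/

set_option autoImplicit false

namespace CfsgLib.ChevAut

open Cfsg.Lie CfsgLib.Chevalley
open scoped MatrixGroups

variable {F : Type*} [Field F] [Finite F]

/-- `|Out G| = d f r` with `r` the number of node permutations. -/
theorem natCard_out_eq {D : ChevalleyDatum}
    (hD : D ∈ [chevG2, chevB2, chevD4, chevF4, chevE6, chevE7, chevE8])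
    {C : Weyl.Cert D.rank} {M : CoxeterMatrix (Fin D.rank)} {R : Weyl.RootTable}
    (hW : GoodWeyl D) (h : Weyl.RootGood C M R) {d : ℕ}
    (hd : d * Nat.card (D.diagonalSubgroup F) = (Nat.card F - 1) ^ D.rank)
    {p f : ℕ} [Fact p.Prime] [CharP F p] (hF : Nat.card F = p ^ f) {r : ℕ}
    (hr : Nat.card (psi hW h (F := F)).range = r) :
    Nat.card (Cfsg.Out ↥(D.group F)) = d * f * r := by
  have := natCard_out (F := F) hW h hD
  rw [← hd, CfsgLib.RegLinear.card_ringAut hF, hr,
    show ∀ a b c e : ℕ, a * b * c * e = a * c * e * b from fun a b c e => by ring] at this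
  exact Nat.eq_of_mul_eq_mul_right Nat.card_pos this

variable {D : ChevalleyDatum} {C : Weyl.Cert D.rank} {M : CoxeterMatrix (Fin D.rank)}
  {R : Weyl.RootTable} (hW : GoodWeyl D) (h : Weyl.RootGood C M R)

theorem range_card_one (hD : D ∈ [chevG2, chevB2, chevD4, chevF4, chevE6, chevE7, chevE8])
    (hlen : (symList D).length ≤ 1) : Nat.card (psi hW h (F := F)).range = 1 :=
  le_antisymm ((natCard_range_psi_le hW h hD).trans hlen) Nat.card_pos

theorem range_card_two (hD : D ∈ [chevG2, chevB2, chevD4, chevF4, chevE6, chevE7, chevE8])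
    (hlen : (symList D).length ≤ 2) {π : Equiv.Perm (Fin D.rank)} (hne : π ≠ 1)
    (hπ : ∃ φ : ↥(stab D F), psi hW h φ = π) : Nat.card (psi hW h (F := F)).range = 2 := by
  refine le_antisymm ((natCard_range_psi_le hW h hD).trans hlen) ?_
  haveI : Nontrivial (psi hW h (F := F)).range :=
    ⟨⟨π, hπ⟩, 1, fun e => hne (congrArg Subtype.val e)⟩
  exact Finite.one_lt_card

theorem range_bot (hD : D ∈ [chevG2, chevB2, chevD4, chevF4, chevE6, chevE7, chevE8]) {c : ℕ}
    (hc : c = 2 ∨ c = 3) (hchk : chkForce D c = true) (hchar : ringChar F ≠ c)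
    (h2 : c = 3 → ¬ ∀ x : F, x = 0 ∨ x = 1) : Nat.card (psi hW h (F := F)).range = 1 := by
  rw [show (psi hW h (F := F)).range = ⊥ by
    refine (eq_bot_iff).2 ?_
    rintro _ ⟨θ, rfl⟩
    exact psi_eq_one hW h hD hc hchk hchar h2 θ]
  exact Subgroup.card_bot

/-- The symmetry of `F₄`. -/
def swapF4 : Equiv.Perm (Fin chevF4.rank) :=
  Equiv.swap (⟨0, by decide⟩ : Fin chevF4.rank) ⟨3, by decide⟩ *
    Equiv.swap (⟨1, by decide⟩ : Fin chevF4.rank) ⟨2, by decide⟩

/-- The symmetry of `E₆`. -/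
def swapE6 : Equiv.Perm (Fin chevE6.rank) :=
  Equiv.swap (⟨0, by decide⟩ : Fin chevE6.rank) ⟨5, by decide⟩ *
    Equiv.swap (⟨2, by decide⟩ : Fin chevE6.rank) ⟨4, by decide⟩

omit hW h in
theorem range_G2 {C : Weyl.Cert chevG2.rank} {M : CoxeterMatrix (Fin chevG2.rank)}
    (hW : GoodWeyl chevG2) (h : Weyl.RootGood C M R) (hq : 3 ≤ Nat.card F) :
    Nat.card (psi hW h (F := F)).range = if ringChar F = 3 then 2 else 1 := by
  split_ifs with h3
  · haveI : CharP F ExcIsogeny.isoG2.p := by
      rw [show ExcIsogeny.isoG2.p = 3 from rfl, ← h3]; infer_instance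
    refine range_card_two hW h (by simp) (by decide +kernel)
      (π := Equiv.swap (⟨0, by decide⟩ : Fin chevG2.rank) ⟨1, by decide⟩) (by decide +kernel) ?_
    exact exists_psi_of_iso hW h ExcIsogeny.isoG2_ok (show Nat.Prime 3 by norm_num)
      (ρ := fun r => if hr : r < chevG2.nroots then (ExcIsogeny.isoG2.rho ⟨r, hr⟩ : ℕ) else 0)
      (fun r => dif_pos r.isLt) (by decide +kernel)
  · refine range_bot hW h (by simp) (c := 3) (Or.inr rfl) (by decide +kernel) h3 fun _ h2 => ?_
    have : Nat.card F ≤ 2 := by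
      refine le_of_le_of_eq (Nat.card_le_card_of_surjective
        (fun b : Bool => bif b then (1 : F) else 0) fun x => ?_) (by simp)
      rcases h2 x with rfl | rfl
      exacts [⟨false, rfl⟩, ⟨true, rfl⟩]
    omega

omit hW h in
theorem range_F4 {C : Weyl.Cert chevF4.rank} {M : CoxeterMatrix (Fin chevF4.rank)}
    (hW : GoodWeyl chevF4) (h : Weyl.RootGood C M R) :
    Nat.card (psi hW h (F := F)).range = if ringChar F = 2 then 2 else 1 := by
  split_ifs with h2
  · haveI : CharP F ExcIsogeny.isoF4.p := by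
      rw [show ExcIsogeny.isoF4.p = 2 from rfl, ← h2]; infer_instance
    refine range_card_two hW h (by simp) (by decide +kernel)
      (π := swapF4) (by decide +kernel) ?_
    exact exists_psi_of_iso hW h ExcIsogeny.isoF4_ok (show Nat.Prime 2 by norm_num)
      (ρ := fun r => if hr : r < chevF4.nroots then (ExcIsogeny.isoF4.rho ⟨r, hr⟩ : ℕ) else 0)
      (fun r => dif_pos r.isLt) (by decide +kernel)
  · exact range_bot hW h (by simp) (c := 2) (Or.inl rfl) (by decide +kernel) h2 (by simp)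

omit hW h in
theorem range_E6 {C : Weyl.Cert chevE6.rank} {M : CoxeterMatrix (Fin chevE6.rank)}
    (hW : GoodWeyl chevE6) (h : Weyl.RootGood C M R) :
    Nat.card (psi hW h (F := F)).range = 2 :=
  range_card_two hW h (by simp) (by decide +kernel)
    (π := swapE6) (by decide +kernel)
    (exists_psi_of_sym hW h Twisted.graphE6_ok (by decide +kernel))

/-- The threefold symmetry of `D₄`. -/
def triD4 : Equiv.Perm (Fin chevD4.rank) :=
  Equiv.swap (⟨0, by decide⟩ : Fin chevD4.rank) ⟨2, by decide⟩ * Equiv.swap ⟨2, by decide⟩ ⟨3, by decide⟩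

/-- A twofold symmetry of `D₄`. -/
def twoD4 : Equiv.Perm (Fin chevD4.rank) :=
  Equiv.swap (⟨0, by decide⟩ : Fin chevD4.rank) ⟨2, by decide⟩

omit hW h in
theorem mem_range_D4 {C : Weyl.Cert chevD4.rank} {M : CoxeterMatrix (Fin chevD4.rank)}
    (hW : GoodWeyl chevD4) (h : Weyl.RootGood C M R) :
    triD4 ∈ (psi hW h (F := F)).range ∧ twoD4 ∈ (psi hW h (F := F)).range :=
  ⟨exists_psi_of_sym hW h Twisted.graphD4_ok (by decide +kernel),
    exists_psi_of_sym hW h graphD4swap_ok (by decide +kernel)⟩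

omit hW h in
theorem range_D4 {C : Weyl.Cert chevD4.rank} {M : CoxeterMatrix (Fin chevD4.rank)}
    (hW : GoodWeyl chevD4) (h : Weyl.RootGood C M R) :
    Nat.card (psi hW h (F := F)).range = 6 := by
  obtain ⟨h3, h2⟩ := mem_range_D4 (F := F) hW h
  refine le_antisymm ((natCard_range_psi_le hW h (by simp)).trans (by decide +kernel)) ?_
  have d3 : 3 ∣ Nat.card (psi hW h (F := F)).range := by
    haveI := Fact.mk Nat.prime_three
    rw [← orderOf_eq_prime (show triD4 ^ 3 = 1 by decide +kernel) (by decide +kernel)]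
    exact Subgroup.orderOf_dvd_natCard _ h3
  have d2 : 2 ∣ Nat.card (psi hW h (F := F)).range := by
    haveI := Fact.mk Nat.prime_two
    rw [← orderOf_eq_prime (show twoD4 ^ 2 = 1 by decide +kernel) (by decide +kernel)]
    exact Subgroup.orderOf_dvd_natCard _ h2
  exact Nat.le_of_dvd Nat.card_pos (Nat.Coprime.mul_dvd_of_dvd_of_dvd (by norm_num) d2 d3)

omit hW h in
set_option maxHeartbeats 0 in
theorem eq_chevD4_or_symList_le
    (hD : D ∈ [chevG2, chevB2, chevD4, chevF4, chevE6, chevE7, chevE8]) :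
    D = chevD4 ∨ (symList D).length ≤ 2 := by
  simp only [List.mem_cons, List.not_mem_nil, or_false] at hD
  rcases hD with rfl | rfl | rfl | rfl | rfl | rfl | rfl
  exacts [Or.inr (by decide +kernel), Or.inr (by decide +kernel), Or.inl rfl,
    Or.inr (by decide +kernel), Or.inr (by decide +kernel), Or.inr (by decide +kernel),
    Or.inr (by decide +kernel)]

/-- The structure of the outer automorphism group. -/
theorem out_structure (hD : D ∈ [chevG2, chevB2, chevD4, chevF4, chevE6, chevE7, chevE8]) :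
    ∃ Db Fb : Subgroup (Cfsg.Out ↥(D.group F)),
      Db = (Subgroup.closure {φ : MulAut ↥(D.group F) | D.IsDiagonalAut φ}).map
        (QuotientGroup.mk' _) ∧
      Fb = (Subgroup.closure {φ : MulAut ↥(D.group F) | D.IsFieldAut φ}).map
        (QuotientGroup.mk' _) ∧
      Db.Normal ∧ IsMulCommutative ↥Db ∧ IsCyclic ↥Fb ∧ (Db ⊔ Fb).Normal ∧
      ((Db ⊔ Fb).index = 1 ∨ (Db ⊔ Fb).index = 2 ∨ ((Db ⊔ Fb).index = 6 ∧
        ¬ commutator (Cfsg.Out ↥(D.group F)) ≤ Db ⊔ Fb)) := by
  have hW := goodWeyl_of_mem hD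
  obtain ⟨C, M, R, h⟩ := exists_rootGood_of_mem hD
  have hok := ChevTorus.chainOK_of_mem hD
  have hc := chkCoef_of_mem hD
  refine ⟨dOut hW hok hc, fOut hW, ?_, ?_, dOut_normal hW hok hc h hD, dOut_comm hW hok hc,
    fOut_cyclic hW, sup_normal hW hok hc h hD, ?_⟩
  · rw [dOut, closure_diagonal_eq hW hok hc]
  · rw [fOut, closure_field_eq hW]
  rw [sup_index hW hok hc h hD]
  have hpos : 0 < Nat.card (psi hW h (F := F)).range := Nat.card_pos
  by_cases hl : (symList D).length ≤ 2
  · have := (natCard_range_psi_le (F := F) hW h hD).trans hl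
    omega
  · obtain rfl := (eq_chevD4_or_symList_le hD).resolve_right hl
    refine Or.inr (Or.inr ⟨range_D4 hW h, ?_⟩)
    obtain ⟨⟨θ, hθ⟩, ⟨φ, hφ⟩⟩ := mem_range_D4 (F := F) hW h
    refine not_commutator_le hW hok hc h hD (θ := θ) (φ := φ) ?_
    rw [hθ, hφ]
    decide +kernel

end CfsgLib.ChevAut
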