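import Cfsg.Agent.ChevAut.Kinds
import Cfsg.Agent.ChevAut.Minimal
import Cfsg.Agent.Chevalley.GroupOrder
import Mathlib.GroupTheory.Sylow

/-!
# Every automorphism is inner times one preserving `U` and `V`
-/

set_option autoImplicit false

namespace CfsgLib.ChevAut

open Cfsg.Lie CfsgLib.Chevalley
open scoped MatrixGroups

variable {D : ChevalleyDatum} {C : Weyl.Cert D.rank} {M : CoxeterMatrix (Fin D.rank)}
  {R : Weyl.RootTable} {F : Type*} [Field F]

theorem pos_le_group (hW : GoodWeyl D) : D.posUnipotent F ≤ D.group F :=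
  (pos_le_borel D).trans (borel_le_group hW)

theorem neg_le_group (hW : GoodWeyl D) : D.negUnipotent F ≤ D.group F := by
  rw [negUnipotent_eq_rootGen hW.good]
  exact rootGen_le _ fun r _ t => X_mem_group _ _ _

/-- The preimage of a subgroup under an automorphism, inside the group. -/
noncomputable def pull (θ : Aut D F) (K : Subgroup (GL D.Idx F)) : Subgroup (GL D.Idx F) :=
  ((K.subgroupOf (D.group F)).comap θ.toMonoidHom).map (D.group F).subtype

theorem mem_pull {θ : Aut D F} {K : Subgroup (GL D.Idx F)} {g : GL D.Idx F} :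
    g ∈ pull θ K ↔ g ∈ D.group F ∧ app θ g ∈ K := by
  constructor
  · rintro ⟨g, hg, rfl⟩
    exact ⟨g.2, by rw [Subgroup.coe_subtype, app_coe]; exact hg⟩
  · rintro ⟨hg, hk⟩
    exact ⟨⟨g, hg⟩, by rw [app_of_mem θ hg] at hk; exact hk, rfl⟩

theorem natCard_pull (θ : Aut D F) {K : Subgroup (GL D.Idx F)} (hK : K ≤ D.group F) :
    Nat.card (pull θ K) = Nat.card K := by
  refine Nat.card_congr (Equiv.ofBijective
    (fun g => (⟨app θ (g : GL D.Idx F), (mem_pull.1 g.2).2⟩ : ↥K)) ⟨fun a b e => ?_, fun k => ?_⟩)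
  · exact Subtype.ext (app_injective θ (congrArg Subtype.val e))
  · refine ⟨⟨app θ⁻¹ (k : GL D.Idx F), mem_pull.2 ⟨app_mem _ (hK k.2), ?_⟩⟩, Subtype.ext ?_⟩
    · rw [app_app_inv]; exact k.2
    · exact app_app_inv θ _

/-- The sum of `q ^ ℓ(w)` is prime to the characteristic. -/
theorem not_dvd_poincare (h : Weyl.RootGood C M R) [Fintype M.Group] {p q : ℕ} (hp : p.Prime)
    (hq : p ∣ q) : ¬ p ∣ ∑ w : M.Group, q ^ M.toCoxeterSystem.length w := by
  classical
  intro hd
  rw [← Finset.add_sum_erase _ _ (Finset.mem_univ (1 : M.Group)), CoxeterSystem.length_one,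
    pow_zero] at hd
  have : p ∣ ∑ w ∈ Finset.univ.erase (1 : M.Group), q ^ M.toCoxeterSystem.length w :=
    Finset.dvd_sum fun w hw => dvd_pow hq fun e =>
      (Finset.mem_erase.1 hw).1 (M.toCoxeterSystem.length_eq_zero_iff.1 e)
  exact hp.not_dvd_one ((Nat.dvd_add_left this).1 hd)

/-- Every subgroup of the order of `U` is a conjugate of `U`. -/
theorem exists_conj_pos (hW : GoodWeyl D) (h : Weyl.RootGood C M R) [Finite F]
    {K : Subgroup (GL D.Idx F)} (hK : K ≤ D.group F)
    (hcard : Nat.card K = Nat.card (D.posUnipotent F)) :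
    ∃ x : ↥(D.group F), ∀ g, g ∈ K ↔ (x : GL D.Idx F)⁻¹ * g * x ∈ D.posUnipotent F := by
  classical
  haveI := Fintype.ofFinite F
  haveI := h.finite_group
  haveI := Fintype.ofFinite M.Group
  obtain ⟨p, hchar⟩ := CharP.exists F
  obtain ⟨n, hp, hcardF⟩ := FiniteField.card F p
  haveI := Fact.mk hp
  rw [← Nat.card_eq_fintype_card] at hcardF
  have hU : Nat.card (D.posUnipotent F) = Nat.card F ^ half D := by
    rw [posUnipotent_eq hW.good]
    exact natCard_uGe hW.toGoodUni
  have hG := natCard_group (F := F) hW h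
  have hq1 : ¬ p ∣ Nat.card F - 1 := by
    intro hd
    have h1 : p ∣ Nat.card F := hcardF ▸ dvd_pow_self p n.2.ne'
    have h2 := Nat.dvd_sub h1 hd
    rw [Nat.sub_sub_self Nat.card_pos] at h2
    exact hp.not_dvd_one h2
  have hH : ¬ p ∣ Nat.card (D.diagonalSubgroup F) := by
    intro hd
    rw [diagonalSubgroup_eq_range hW] at hd
    have h1 : p ∣ Nat.card (Fin D.rank → Fˣ) := hd.trans (Subgroup.card_range_dvd _)
    rw [Nat.card_fun, Nat.card_units, Nat.card_fin] at h1
    exact hq1 (hp.dvd_of_dvd_pow h1)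
  have hS : ∀ L : Subgroup (GL D.Idx F), L ≤ D.group F →
      Nat.card L = Nat.card (D.posUnipotent F) →
      IsPGroup p (L.subgroupOf (D.group F)) ∧ ¬ p ∣ (L.subgroupOf (D.group F)).index := by
    intro L hL hLc
    have hc : Nat.card (L.subgroupOf (D.group F)) = Nat.card F ^ half D := by
      rw [Nat.card_congr (Subgroup.subgroupOfEquivOfLe hL).toEquiv, hLc, hU]
    refine ⟨IsPGroup.of_card (n := (n : ℕ) * half D) (by rw [hc, hcardF, ← pow_mul]), fun hd => ?_⟩
    have hm := (L.subgroupOf (D.group F)).card_mul_index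
    rw [hc, hG, mul_assoc (Nat.card F ^ half D)] at hm
    rw [Nat.eq_of_mul_eq_mul_left (pow_pos Nat.card_pos _) hm] at hd
    rcases (hp.dvd_mul).1 hd with h1 | h1
    · exact hH h1
    · exact not_dvd_poincare h hp (hcardF ▸ dvd_pow_self p n.2.ne') h1
  obtain ⟨hU1, hU2⟩ := hS _ (pos_le_group hW) rfl
  obtain ⟨hK1, hK2⟩ := hS K hK hcard
  obtain ⟨x, hx⟩ := MulAction.exists_smul_eq ↥(D.group F) (hU1.toSylow hU2) (hK1.toSylow hK2)
  refine ⟨x, fun g => ?_⟩
  have hx' : ((D.posUnipotent F).subgroupOf (D.group F)).map (MulAut.conj x).toMonoidHom =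
      K.subgroupOf (D.group F) :=
    congrArg (fun P : Sylow p ↥(D.group F) => (P : Subgroup ↥(D.group F))) hx
  constructor
  · intro hg
    have : (⟨g, hK hg⟩ : ↥(D.group F)) ∈ K.subgroupOf (D.group F) := hg
    rw [← hx'] at this
    obtain ⟨u, hu, e⟩ := this
    have e' : (x : GL D.Idx F) * u * (x : GL D.Idx F)⁻¹ = g := congrArg Subtype.val e
    rw [← e']
    simpa [mul_assoc] using Subgroup.mem_subgroupOf.1 hu
  · intro hg
    set u : ↥(D.group F) := ⟨(x : GL D.Idx F)⁻¹ * g * x, pos_le_group hW hg⟩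
    have h1 : MulAut.conj x u ∈ K.subgroupOf (D.group F) := by
      rw [← hx']; exact ⟨u, hg, rfl⟩
    rw [Subgroup.mem_subgroupOf] at h1
    simpa [u, mul_assoc] using h1

/-- The automorphisms preserving `U` and `V`. -/
noncomputable def stab (D : ChevalleyDatum) (F : Type*) [Field F] : Subgroup (Aut D F) where
  carrier := {θ | (∀ g, app θ g ∈ D.posUnipotent F ↔ g ∈ D.posUnipotent F) ∧
    ∀ g, app θ g ∈ D.negUnipotent F ↔ g ∈ D.negUnipotent F}
  one_mem' := ⟨fun g => by rw [app_one], fun g => by rw [app_one]⟩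
  mul_mem' := fun {a b} ha hb => ⟨fun g => by rw [app_mul, ha.1, hb.1],
    fun g => by rw [app_mul, ha.2, hb.2]⟩
  inv_mem' := fun {a} ha => ⟨fun g => by rw [← ha.1, app_app_inv],
    fun g => by rw [← ha.2, app_app_inv]⟩

/-- Every automorphism is an inner one times one preserving `U` and `V`. -/
theorem exists_conj_mul_stab (hW : GoodWeyl D) (h : Weyl.RootGood C M R) [Finite F]
    (θ : Aut D F) : ∃ x : ↥(D.group F), ∃ φ ∈ stab D F, θ = MulAut.conj x * φ := by
  classical
  obtain ⟨x, hx⟩ := exists_conj_pos hW h (K := pull θ (D.posUnipotent F))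
    (fun g hg => (mem_pull.1 hg).1) (natCard_pull θ (pos_le_group hW))
  set θ1 := θ * MulAut.conj x with hθ1
  have h1 : ∀ g, app θ1 g ∈ D.posUnipotent F ↔ g ∈ D.posUnipotent F := by
    intro g
    by_cases hg : g ∈ D.group F
    · rw [hθ1, app_mul, app_conj x hg]
      have hm := hx ((x : GL D.Idx F) * g * (x : GL D.Idx F)⁻¹)
      rw [mem_pull] at hm
      simp only [mul_mem (mul_mem x.2 hg) (inv_mem x.2), true_and] at hm
      rw [hm]
      simp [mul_assoc]
    · simp [app, hg]
  have hVcard : Nat.card (D.negUnipotent F) = Nat.card (D.posUnipotent F) := by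
    rw [negUnipotent_eq hW.good, posUnipotent_eq hW.good]
    exact (natCard_uGe hW.toGoodUni).trans (natCard_uGe hW.toGoodUni).symm
  obtain ⟨y, hy⟩ := exists_conj_pos hW h (K := pull θ1 (D.negUnipotent F))
    (fun g hg => (mem_pull.1 hg).1) ((natCard_pull θ1 (neg_le_group hW)).trans hVcard)
  obtain ⟨w, hw⟩ := exists_mem_cell hW h y.2
  obtain ⟨b, hb, b', hb', hyw⟩ := hw
  set n := nW hW h F w
  have hm : MonBy hW n (h.rootPerm w) := monBy_nW hW h w
  have hlong : IsLongest h w := by
    have hpos : ∀ r : Root D, half D ≤ r → (h.rootPerm w r : ℕ) < half D := by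
      intro r hr
      by_contra hn
      obtain ⟨c, hc⟩ := hm.conj_X r
      have hU : X hW.good (h.rootPerm w r) (c : F) ∈ D.posUnipotent F :=
        X_mem_pos hW.good (not_lt.1 hn) _
      set g := b * X hW.good (h.rootPerm w r) (c : F) * b⁻¹
      have hgU : g ∈ D.posUnipotent F := borel_conj_pos hW hb hU
      have hgK : g ∈ pull θ1 (D.negUnipotent F) := by
        rw [hy]
        have e : ((y : GL D.Idx F))⁻¹ * g * (y : GL D.Idx F) = b'⁻¹ * X hW.good r (1 : F) * b' := by
          have e1 : X hW.good (h.rootPerm w r) (c : F) = n * X hW.good r 1 * n⁻¹ := by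
            rw [hc, mul_one]
          simp only [g, e1, ← hyw]
          group
        rw [e]
        simpa using borel_conj_pos hW (inv_mem hb') (X_mem_pos hW.good hr (1 : F))
      have h2 : app θ1 g = 1 := pos_inf_neg hW ((h1 g).2 hgU) (mem_pull.1 hgK).2
      have h3 : g = 1 := app_injective θ1 (h2.trans (app_map_one θ1).symm)
      have h4 : X hW.good (h.rootPerm w r) (c : F) = X hW.good (h.rootPerm w r) 0 := by
        rw [X_zero]; exact conj_eq_one_iff.1 h3
      exact c.ne_zero (X_injective hW.good _ h4)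
    intro r
    refine ⟨hpos r, fun hr => ?_⟩
    by_contra hn
    have hrev : half D ≤ (r.rev : ℕ) := by
      have := hW.good.two_half; rw [Fin.val_rev]; omega
    have := hpos _ hrev
    rw [hm.apply_rev, Fin.val_rev] at this
    have := hW.good.two_half
    omega
  obtain ⟨u, hu, k, hk, rfl⟩ := (mem_borel_iff hW).1 hb
  have h2 : ∀ g, g ∈ pull θ1 (D.negUnipotent F) ↔ u⁻¹ * g * u ∈ D.negUnipotent F := by
    intro g
    have hgi : MonBy hW n⁻¹ (h.rootPerm w⁻¹) := by rw [map_inv]; exact hm.inv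
    rw [hy]
    constructor
    · intro hg
      have e1 := longest_conj_pos hW hlong hm (borel_conj_pos hW hb' hg)
      have e2 := (Subgroup.mem_normalizer_iff.1 (diag_le_normalizer_neg hW hk) _).1 e1
      rw [show u⁻¹ * g * u = k * (n * (b' * ((y : GL D.Idx F)⁻¹ * g * y) * b'⁻¹) * n⁻¹) * k⁻¹ by
        rw [← hyw]; group]
      exact e2
    · intro hg
      have e1 := longest_conj_neg hW hlong.inv hgi
        ((Subgroup.mem_normalizer_iff.1 (diag_le_normalizer_neg hW (inv_mem hk)) _).1 hg)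
      have e2 := borel_conj_pos hW (inv_mem hb') e1
      rw [show (y : GL D.Idx F)⁻¹ * g * y =
        b'⁻¹ * (n⁻¹ * (k⁻¹ * (u⁻¹ * g * u) * k⁻¹⁻¹) * n⁻¹⁻¹) * b'⁻¹⁻¹ by rw [← hyw]; group]
      exact e2
  set z : ↥(D.group F) := ⟨u, pos_le_group hW hu⟩
  set φ := θ1 * MulAut.conj z with hφdef
  have hφ : φ ∈ stab D F := by
    refine ⟨fun g => ?_, fun g => ?_⟩
    · by_cases hg : g ∈ D.group F
      · rw [hφdef, app_mul, app_conj z hg, h1]
        refine ⟨fun hh => ?_, fun hh => mul_mem (mul_mem hu hh) (inv_mem hu)⟩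
        simpa [z, mul_assoc] using mul_mem (mul_mem (inv_mem hu) hh) hu
      · simp [app, hg]
    · by_cases hg : g ∈ D.group F
      · rw [hφdef, app_mul, app_conj z hg]
        have hm := h2 ((z : GL D.Idx F) * g * (z : GL D.Idx F)⁻¹)
        rw [mem_pull] at hm
        simp only [mul_mem (mul_mem z.2 hg) (inv_mem z.2), true_and] at hm
        rw [hm]
        simp [z, mul_assoc]
      · simp [app, hg]
  refine ⟨φ (x * z)⁻¹, φ, hφ, ?_⟩
  have e : θ = φ * MulAut.conj (x * z)⁻¹ := by
    simp only [hφdef, hθ1, map_inv, map_mul, mul_inv_rev]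
    group
  conv_lhs => rw [e]
  refine MulEquiv.ext fun g => ?_
  simp [MulAut.conj_apply]

end CfsgLib.ChevAut
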